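import Cfsg.Agent.Lib.Coprime.CharAction
import Cfsg.Agent.Lib.Clifford.Cover
import Cfsg.Agent.Lib.Char.Center
import Cfsg.Agent.Lib.PGrp.Basic

/-!
# Characters of extraspecial groups extended by coprime automorphisms
-/

set_option autoImplicit false

namespace Cfsg.Lib.FG

open Subgroup Clifford Char Finset
open scoped commutatorElement ComplexConjugate

variable {G : Type*} [Group G] [Finite G] {K N P Z H : Subgroup G} {χ θ : G → ℂ} {p : ℕ} {x y z : G}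

theorem irr_central (h : IrrOn K χ) (hz : z ∈ K) (hc : z ∈ centralizer (K : Set G)) : ∃ c : ℂ, ‖c‖ = 1 ∧ ∀ y ∈ K, χ (z * y) = c * χ y := by
  have h1 := Cfsg.IsIrrCharacter.center_le_charCenter h (mem_center_iff.2 fun y => Subtype.ext (hc y y.2) : (⟨z, hz⟩ : K) ∈ center K)
  have h2 := (Cfsg.IsIrrCharacter.mem_charCenter h).1 h1
  obtain ⟨c, hc⟩ := mem_charCenter_def.1 h1
  refine ⟨c, ?_, fun y hy => hc ⟨y, hy⟩⟩
  rw [← mul_one (⟨z, hz⟩ : K), hc, norm_mul] at h2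
  exact (mul_eq_right₀ (norm_ne_zero_iff.2 h.one_ne_zero)).1 h2

theorem sum_coset_normSq (hNK : N ≤ K) (hN : Nrm K N) (hχ : CharOn K χ) (hχN : IrrOn N χ) (hx : x ∈ K) :
    ∑ n ∈ elems N, ‖χ (n * x)‖ ^ 2 = Nat.card N := by
  classical
  have h1 := InvOn.avg_coset (hχ.mul hχ.star).classOn hNK hN hx
  rw [sum_eq_single_of_mem _ (cut_one_mem_IrrKer hNK) fun β hβ hne => by
    obtain ⟨a, b⟩ := mem_IrrKer.1 hβ
    rw [dot_mul_left, star_star, ← one_mul χ, ← mul_assoc, mul_one, dot_mul_ext hNK hN hχ hχN (irrOn_one K) (irrOn_of_mem a) (triv_one N) b,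
      ← dot_cut_left, dot_irr_of_ne (cut_one_mem K) a hne.symm, zero_mul], dot_cut_right, dot_mul_left, star_star, one_mul,
    (hχ.irrOn_of_res hNK hχN).dot_self, cut_of_mem _ hx, one_mul, Pi.one_apply, inv_mul_eq_one₀ (Clifford.card_ne_zero N)] at h1
  refine Complex.ofReal_injective ?_
  push_cast
  rw [h1]
  exact sum_congr rfl fun n _ => by simp [Complex.mul_conj']

theorem norm_eq_one (hNK : N ≤ K) (hN : Nrm K N) (hχ : CharOn K χ) (hχN : IrrOn N χ) (hx : x ∈ K) (hcop : (orderOf x).Coprime (Nat.card N))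
    (hC : N ⊓ centralizer {x} ≤ centralizer (K : Set G)) : ‖χ x‖ = 1 := by
  have h1 := PF.sum_coset_conj (hN x hx) hcop fun g => ‖χ g‖ ^ 2
  rw [sum_coset_normSq hNK hN hχ hχN hx, sum_congr rfl fun k hk => sum_congr rfl (g := fun _ => ‖χ x‖ ^ 2) fun c hc => by
    obtain ⟨a, ha, e⟩ := irr_central (hχ.irrOn_of_res hNK hχN) (hNK (mem_elems.1 hc).1) (hC (mem_elems.1 hc))
    rw [hχ.classOn k (hNK (mem_elems.1 hk)) _ (mul_mem (hNK (mem_elems.1 hc).1) hx), e x hx, norm_mul, ha, one_mul], sum_const, sum_const, card_elems,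
    card_elems, smul_comm, nsmul_eq_mul, nsmul_eq_mul, nsmul_eq_mul, mul_right_inj' (Nat.cast_ne_zero.2 Nat.card_pos.ne'),
    mul_eq_left₀ (Nat.cast_ne_zero.2 Nat.card_pos.ne')] at h1
  exact (pow_eq_one_iff_of_nonneg (norm_nonneg _) two_ne_zero).1 h1

theorem dvd_of_sum_sq {ι : Type*} (s : Finset ι) (m : ι → ℤ) (h0 : 0 < s.card) (h : s.card * ∑ i ∈ s, m i ^ 2 = (∑ i ∈ s, m i) ^ 2 + s.card - 1) :
    (s.card : ℤ) ∣ ∑ i ∈ s, m i + 1 ∨ (s.card : ℤ) ∣ ∑ i ∈ s, m i - 1 := by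
  have h1 : (0 : ℤ) < s.card := by exact_mod_cast h0
  set a := (∑ i ∈ s, m i) / s.card
  have h2 := Int.emod_nonneg (∑ i ∈ s, m i) h1.ne'
  have h3 := Int.emod_lt_of_pos (∑ i ∈ s, m i) h1
  have h4 := Int.mul_ediv_add_emod (∑ i ∈ s, m i) s.card
  set b := (∑ i ∈ s, m i) % s.card
  have h5 : ∑ i ∈ s, (m i - a) ≤ ∑ i ∈ s, (m i - a) ^ 2 := sum_le_sum fun i _ => Int.le_self_sq _
  have h6 : s.card * ∑ i ∈ s, (m i - a) ^ 2 = b ^ 2 + s.card - 1 := by
    simp only [sub_sq, sum_add_distrib, sum_sub_distrib, ← sum_mul, ← mul_sum, sum_const, nsmul_eq_mul, mul_add, mul_sub, h]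
    rw [← h4]; ring
  rw [sum_sub_distrib, sum_const, nsmul_eq_mul] at h5
  rcases h2.eq_or_lt with h2 | h2
  · exact .inl (dvd_add ⟨a, by linarith⟩ ⟨1 - ∑ i ∈ s, (m i - a) ^ 2, by rw [mul_sub, h6, ← h2]; ring⟩)
  by_cases h7 : b = 1
  · exact .inr ⟨a, by linarith⟩
  by_cases h8 : b = s.card - 1
  · exact .inl ⟨a + 1, by linarith⟩
  nlinarith [mul_le_mul_of_nonneg_left h5 h1.le, mul_pos (show 0 < b - 1 by omega) (show 0 < s.card - 1 - b by omega)]

theorem dvd_of_norm_eq_one (hχ : CharOn H χ) (hH : ∀ a ∈ H, ∀ b ∈ H, a * b = b * a) (h : ∀ x ∈ H, x ≠ 1 → ‖χ x‖ = 1) :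
    (Nat.card H : ℤ) ∣ charDegree χ + 1 ∨ (Nat.card H : ℤ) ∣ charDegree χ - 1 := by
  classical
  have h1 (θ) (hθ : θ ∈ Irr H) : charDegree θ = 1 := ((irrOn_of_mem hθ).linOn_of_comm hH).deg
  have h2 : (Irr H).card = Nat.card H := by rw [← sum_deg_sq, card_eq_sum_ones]; exact sum_congr rfl fun θ hθ => by rw [h1 θ hθ, one_pow]
  have h3 : (charDegree χ : ℤ) = ∑ θ ∈ Irr H, (mult H χ θ : ℤ) := by
    rw [hχ.deg_eq_sum]; push_cast; exact sum_congr rfl fun θ hθ => by simp [h1 θ hθ]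
  have h4 := hχ.dot_eq_mult hχ
  rw [dot_self_eq, ← add_sum_erase _ _ (mem_elems.2 H.one_mem), sum_congr rfl (g := fun _ => (1 : ℝ)) fun x hx => by
    rw [h x (mem_elems.1 (mem_of_mem_erase hx)) (ne_of_mem_erase hx), one_pow], sum_const, card_erase_of_mem (mem_elems.2 H.one_mem), card_elems,
    hχ.one_eq, hχ.mult_eq_sum hχ, Complex.norm_natCast, ← Complex.ofReal_natCast, Complex.ofReal_inj,
    inv_mul_eq_iff_eq_mul₀ (Nat.cast_ne_zero.2 Nat.card_pos.ne'), nsmul_eq_mul, mul_one, Nat.cast_pred Nat.card_pos] at h4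
  rw [h3, ← h2]
  refine dvd_of_sum_sq _ _ (h2 ▸ Nat.card_pos) ?_
  rw [← h3, h2, add_sub_assoc]
  simp only [sq] at h4 ⊢
  exact_mod_cast h4.symm

theorem deg_le_of_norm_eq_one (hχ : CharOn H χ) (h : ∀ x ∈ H, x ≠ 1 → ‖χ x‖ = 1) (h0 : dot H χ 1 = 0) : charDegree χ ≤ Nat.card H - 1 := by
  classical
  rw [dot, mul_eq_zero, or_iff_right (inv_ne_zero (Clifford.card_ne_zero H)), ← add_sum_erase _ _ (mem_elems.2 H.one_mem), add_eq_zero_iff_eq_neg] at h0
  have h1 := (congrArg norm h0).trans_le ((norm_neg _).trans_le (norm_sum_le _ _))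
  rw [sum_congr rfl (g := fun _ => (1 : ℝ)) fun x hx => by simp [h x (mem_elems.1 (mem_of_mem_erase hx)) (ne_of_mem_erase hx)], sum_const,
    card_erase_of_mem (mem_elems.2 H.one_mem), card_elems, hχ.one_eq] at h1
  exact Nat.cast_le.1 (by simpa only [Pi.one_apply, map_one, mul_one, Complex.norm_natCast, nsmul_eq_mul] using h1 : (_ : ℝ) ≤ _)

/-- `Z` is the centre of `P`, of order `p`, and contains the derived subgroup. -/
structure XS (p : ℕ) (P Z : Subgroup G) : Prop where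
  eq : P ⊓ centralizer (P : Set G) = Z
  card : Nat.card Z = p
  comm : ⁅P, P⁆ = Z

omit [Finite G] in
theorem xs_of (h : IsExtraspecial p P) : XS p P ((center P).map P.subtype) :=
  ⟨by ext x; simp [mem_center_iff, mem_centralizer_iff, Subtype.ext_iff, and_comm], by rw [card_map_of_injective P.subtype_injective, h.2],
    by rw [← h.1.2.2, _root_.commutator, map_commutator, ← MonoidHom.range_eq_map, range_subtype]⟩

namespace XS

variable (h : XS p P Z) (hp : p.Prime)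
include h

omit [Finite G] in
theorem le : Z ≤ P := h.eq.ge.trans inf_le_left

omit [Finite G] in
theorem cent : Z ≤ centralizer (P : Set G) := h.eq.ge.trans inf_le_right

include hp

theorem vanish (hθ : IrrOn P θ) (ht : ¬ Triv Z θ) (hy : y ∈ P) (hy' : y ∉ Z) : θ y = 0 := by
  by_contra h0
  refine hy' (h.eq.le ⟨hy, fun x hx => ?_⟩)
  by_contra h1
  have h2 := h.comm.le (commutator_mem_commutator hx hy)
  obtain ⟨c, -, hc⟩ := irr_central hθ (h.le h2) (h.cent h2)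
  have h3 := hc y hy
  rw [commutatorElement_def, inv_mul_cancel_right, hθ.classOn x hx y hy, eq_comm, mul_eq_right₀ h0] at h3
  refine ht ((hθ.charOn.le_kerOn h.le).1 ?_)
  rw [← Coprime.zpowers_eq_of_card_prime (h.card ▸ hp) h2 (mt commutatorElement_eq_one_iff_mul_comm.1 h1), zpowers_le, hθ.charOn.mem_kerOn]
  exact ⟨h.le h2, by simpa [h3] using hc 1 P.one_mem⟩

theorem deg_sq (hθ : IrrOn P θ) (ht : ¬ Triv Z θ) : charDegree θ ^ 2 * p = Nat.card P := by
  have h1 := dot_of_supp h.le (fun x => h.vanish hp hθ ht) θ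
  rw [hθ.dot_self, mul_one, dot_self_eq, sum_congr rfl (g := fun _ => (charDegree θ : ℝ) ^ 2) fun z hz => by
    obtain ⟨c, h1, hc⟩ := irr_central hθ (h.le (mem_elems.1 hz)) (h.cent (mem_elems.1 hz))
    rw [← mul_one z, hc 1 P.one_mem, norm_mul, h1, one_mul, hθ.one_eq, Complex.norm_natCast], sum_const, card_elems, nsmul_eq_mul,
    inv_mul_cancel_left₀ (Nat.cast_ne_zero.2 Nat.card_pos.ne')] at h1
  rw [← card_mul_relIndex h.le, h.card, mul_comm]
  congr 1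
  exact_mod_cast h1

theorem invOn (hθ : IrrOn P θ) (ht : ¬ Triv Z θ) (hP : Nrm K P) (hZ : Z ≤ centralizer (K : Set G)) : InvOn K P θ := fun g hg n hn => by
  by_cases h1 : n ∈ Z
  · rw [hZ h1 g hg, mul_inv_cancel_right]
  · rw [h.vanish hp hθ ht hn h1, h.vanish hp hθ ht (hP g hg n hn) fun e => h1 ?_]
    have h2 := hZ e g⁻¹ (inv_mem hg)
    rwa [show g * n * g⁻¹ = n by rw [← mul_left_inj g⁻¹, ← h2]; group] at e

theorem exists_irr : ∃ θ, IrrOn P θ ∧ ¬ Triv Z θ := by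
  obtain ⟨z, hz, h1⟩ := (bot_or_exists_ne_one Z).resolve_left fun e => hp.ne_one (by rw [← h.card, e, card_bot])
  obtain ⟨β, hβ, h2⟩ := exists_IrrKer_ne (bot_le (a := P)) (nrm_of_normal P ⊥) (mt mem_bot.1 h1)
  exact ⟨β, irrOn_of_mem (IrrKer_subset hβ), fun e => h2 (e z hz)⟩

end XS

end Cfsg.Lib.FG
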