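import Cfsg.Agent.Lib.Hall.ClassSize
import Cfsg.Agent.Lib.PGrp.MaxClass
import Cfsg.Agent.Lib.Core.Basic

/-!
# Counting: Frobenius' theorem on `x ^ n = 1`, numbers of subgroups of prime power order
-/

set_option autoImplicit false

namespace Cfsg.Lib.FG

open Subgroup Hall
open scoped Pointwise

variable {G : Type*} [Group G]

theorem dvd_sum_of_class [Fintype G] (f : G → ℕ) (d : ℕ) (hf : ∀ x g, f (g * x * g⁻¹) = f x)
    (h : ∀ x, d ∣ cs x * f x) : d ∣ ∑ x, f x := by
  classical
  rw [← Finset.sum_fiberwise_of_maps_to (g := ConjClasses.mk) (t := Finset.univ.image ConjClasses.mk)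
    fun x hx => Finset.mem_image_of_mem _ hx]
  refine Finset.dvd_sum fun c hc => ?_
  obtain ⟨x, -, rfl⟩ := Finset.mem_image.1 hc
  rw [Finset.sum_congr rfl (g := fun _ => f x) fun y hy => by
    obtain ⟨g, rfl⟩ := isConj_iff.1 (ConjClasses.mk_eq_mk_iff_isConj.1 (Finset.mem_filter.1 hy).2).symm
    exact hf x g, Finset.sum_const, smul_eq_mul]
  have e : (Finset.univ.filter fun y => ConjClasses.mk y = ConjClasses.mk x).card = cs x := by
    rw [← ncard_isConj, ← Set.ncard_coe_finset]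
    congr 1; ext y; simp only [Finset.coe_filter, Finset.mem_univ, true_and, Set.mem_setOf_eq, ConjClasses.mk_eq_mk_iff_isConj, isConj_comm]
  exact e ▸ h x

theorem card_sub (H : Subgroup G) (P : G → Prop) : Nat.card {y : H // P y} = Nat.card {y : G // y ∈ H ∧ P y} :=
  Nat.card_congr (Equiv.subtypeSubtypeEquivSubtypeInter _ _)

theorem card_conj (P : G → Prop) (g : G) : Nat.card {y : G // P (g * y * g⁻¹)} = Nat.card {y : G // P y} :=
  Nat.card_congr ((MulAut.conj g).toEquiv.subtypeEquiv fun _ => Iff.rfl)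

theorem card_decomp [Fintype G] {a b : ℕ} (hab : a.Coprime b) (S : G → Prop) :
    Nat.card {x : G // x ^ (a * b) = 1 ∧ S x} =
      ∑ z : G, Nat.card {y : G // y ∈ centralizer ({z} : Set G) ∧ y ^ a = 1 ∧ z ^ b = 1 ∧ S (y * z)} := by
  have e : (1 : ℤ) = a * a.gcdA b + b * a.gcdB b := by rw [← Nat.gcd_eq_gcd_ab, hab]; rfl
  have k : ∀ y z : G, Commute y z → y ^ a = 1 → z ^ b = 1 → (y * z) ^ ((a : ℤ) * a.gcdA b) = z := fun y z h h1 h2 => by
    rw [h.mul_zpow, zpow_mul, zpow_natCast, h1, one_zpow, one_mul]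
    conv_rhs => rw [← zpow_one z, e, zpow_add, zpow_mul z b, zpow_natCast, h2, one_zpow, mul_one]
  rw [← Nat.card_sigma]
  refine (Nat.card_congr (Equiv.ofBijective (fun u => ⟨u.2.1 * u.1, by
    rw [Commute.mul_pow (mem_cent_iff.1 u.2.2.1), pow_mul, u.2.2.2.1, mul_comm a, pow_mul, u.2.2.2.2.1]; simp, u.2.2.2.2.2⟩) ⟨?_, fun x => ?_⟩)).symm
  · rintro ⟨z, y, h, h1, h2, _⟩ ⟨z', y', h', h1', h2', _⟩ e1
    have e2 : y * z = y' * z' := congrArg Subtype.val e1
    obtain rfl : z = z' := by rw [← k y z (mem_cent_iff.1 h) h1 h2, e2, k y' z' (mem_cent_iff.1 h') h1' h2']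
    obtain rfl := mul_right_cancel e2
    rfl
  · have e1 : x.1 ^ ((b : ℤ) * a.gcdB b) * x.1 ^ ((a : ℤ) * a.gcdA b) = x := by rw [← zpow_add, add_comm, ← e, zpow_one]
    have e2 : ∀ k : ℤ, x.1 ^ (((a * b : ℕ) : ℤ) * k) = 1 := fun k => by rw [zpow_mul, zpow_natCast, x.2.1, one_zpow]
    refine ⟨⟨x.1 ^ ((a : ℤ) * a.gcdA b), x.1 ^ ((b : ℤ) * a.gcdB b), mem_cent_iff.2 (zpow_mul_comm _ _ _), ?_, ?_, e1.symm ▸ x.2.2⟩,
      Subtype.ext e1⟩
    · rw [← zpow_natCast, ← zpow_mul]; refine .trans ?_ (e2 (a.gcdB b)); congr 1; push_cast; ring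
    · rw [← zpow_natCast, ← zpow_mul]; refine .trans ?_ (e2 (a.gcdA b)); congr 1; push_cast; ring

/-- class sums of the decomposition: the summand is the number of solutions in `C(z)` or zero -/
theorem dvd_decomp [Fintype G] {a d : ℕ} (hd : d ∣ Nat.card G) (T : G → Prop) (hT : ∀ x g, T (g * x * g⁻¹) ↔ T x)
    (h : ∀ z : G, T z → d.gcd (Nat.card (centralizer ({z} : Set G))) ∣ Nat.card {y : centralizer ({z} : Set G) // y ^ a = 1}) :
    d ∣ ∑ z : G, Nat.card {y : G // y ∈ centralizer ({z} : Set G) ∧ y ^ a = 1 ∧ T z} := by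
  refine dvd_sum_of_class _ _ (fun x g => ?_) fun z => ?_
  · rw [← card_conj _ g]
    refine Nat.card_congr (Equiv.subtypeEquivRight fun y => ?_)
    simp only [hT, mem_cent_iff, conj_pow, conj_eq_one_iff, conj_mul, mul_left_inj, mul_right_inj]
  by_cases hz : T z
  · have h1 := h z hz
    simp only [← Subtype.coe_inj, SubgroupClass.coe_pow, OneMemClass.coe_one] at h1
    rw [card_sub _ (fun y => y ^ a = 1)] at h1
    simp only [hz, and_true]
    refine dvd_trans ?_ (Nat.mul_dvd_mul_left _ h1)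
    rw [← Nat.gcd_mul_left, index_mul_card]
    exact Nat.dvd_gcd (dvd_mul_left _ _) hd
  · simp [hz]

theorem card_orderOf_eq [Finite G] (n : ℕ) :
    Nat.card {x : G // orderOf x = n} = Nat.card {H : Subgroup G // IsCyclic H ∧ Nat.card H = n} * n.totient := by
  classical
  let f : {x : G // orderOf x = n} → {H : Subgroup G // IsCyclic H ∧ Nat.card H = n} := fun x =>
    ⟨zpowers x.1, inferInstance, by rw [Nat.card_zpowers, x.2]⟩
  have key : ∀ H, Nat.card {x // f x = H} = n.totient := fun H => by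
    have e : {x // f x = H} ≃ {y : H.1 // orderOf y = n} :=
      { toFun := fun x => ⟨⟨x.1.1, (congrArg Subtype.val x.2).le (mem_zpowers _)⟩, (orderOf_coe _).symm.trans x.1.2⟩
        invFun := fun y =>
          have h : orderOf (y.1 : G) = n := (orderOf_coe _).trans y.2
          ⟨⟨y.1, h⟩, Subtype.ext (PGrp.eq_of_le_of_card_le (zpowers_le.2 y.1.2) (by rw [Nat.card_zpowers, h, H.2.2]))⟩
        left_inv := fun _ => rfl
        right_inv := fun _ => rfl }
    have := Fintype.ofFinite H.1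
    have := H.2.1
    rw [Nat.card_congr e, Nat.card_eq_fintype_card, Fintype.card_subtype,
      IsCyclic.card_orderOf_eq_totient (by rw [← Nat.card_eq_fintype_card, H.2.2])]
  have := Fintype.ofFinite {H : Subgroup G // IsCyclic H ∧ Nat.card H = n}
  rw [← Nat.card_congr (Equiv.sigmaFiberEquiv f), Nat.card_sigma]
  simp [key]

theorem card_pow_succ [Finite G] {p : ℕ} (hp : p.Prime) (a : ℕ) : Nat.card {x : G // x ^ p ^ (a + 1) = 1} =
    Nat.card {x : G // x ^ p ^ a = 1} + Nat.card {x : G // orderOf x = p ^ (a + 1)} := by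
  classical
  have := Fact.mk hp
  rw [← Nat.card_sum]
  refine (Nat.card_congr ((subtypeOrEquiv _ _ ?_).symm.trans (Equiv.subtypeEquivRight fun x => ?_))).symm
  · refine Set.disjoint_left.2 fun x h1 h2 => ?_
    have := Nat.le_of_dvd (pow_pos hp.pos a) ((show orderOf x = _ from h2) ▸ orderOf_dvd_of_pow_eq_one h1)
    exact absurd (Nat.pow_lt_pow_right hp.one_lt a.lt_succ_self) this.not_gt
  · refine ⟨fun h => h.elim (fun h => by rw [pow_succ, pow_mul, h, one_pow]) fun h => h ▸ pow_orderOf_eq_one x, fun h => ?_⟩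
    by_cases h1 : x ^ p ^ a = 1
    exacts [.inl h1, .inr (orderOf_eq_prime_pow h1 h)]

theorem card_pow_gcd [Finite G] (n : ℕ) : Nat.card {x : G // x ^ n = 1} = Nat.card {x : G // x ^ n.gcd (Nat.card G) = 1} :=
  Nat.card_congr (Equiv.subtypeEquivRight fun x => by rw [pow_gcd_eq_one]; simp)

universe u in
theorem frobenius_pow {p : ℕ} (hp : p.Prime) (n : ℕ) : ∀ (G : Type u) [Group G] [Finite G], Nat.card G = n →
    ∀ a, (p ^ a).gcd (Nat.card G) ∣ Nat.card {x : G // x ^ p ^ a = 1} := by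
  classical
  induction n using Nat.strong_induction_on with | _ n ih =>
  intro G _ _ hG
  have := Fintype.ofFinite G
  have := Fact.mk hp
  obtain ⟨k, s, hs, e⟩ := Nat.exists_eq_pow_mul_and_not_dvd (Nat.card_pos (α := G)).ne' p hp.ne_one
  have hc : (p ^ k).Coprime s := ((Nat.Prime.coprime_iff_not_dvd hp).2 hs).pow_left k
  have top : p ^ k ∣ Nat.card {x : G // x ^ p ^ k = 1} := by
    have h1 := card_decomp (G := G) hc fun _ => True
    have h2 := dvd_decomp (a := p ^ k) (e ▸ dvd_mul_right (p ^ k) s) (fun z => z ^ s = 1 ∧ z ∉ center G)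
      (fun x g => by simp only [conj_pow, conj_eq_one_iff, ← cs_eq_one_iff, cs_conj])
      fun z hz => ih _ (hG ▸ Hall.card_lt_of_ne_top (mt cent_eq_top_iff.1 hz.2)) _ rfl k
    let Z : Subgroup G :=
      { carrier := {z | z ^ s = 1 ∧ z ∈ center G}
        one_mem' := ⟨one_pow _, one_mem _⟩
        mul_mem' := fun {a b} ha hb => ⟨by rw [Commute.mul_pow (mem_center_iff.1 hb.2 a), ha.1, hb.1, one_mul], mul_mem ha.2 hb.2⟩
        inv_mem' := fun {a} ha => ⟨by rw [inv_pow, ha.1, inv_one], inv_mem ha.2⟩ }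
    have h3 : (p ^ k).Coprime (Nat.card Z) := ((Nat.Prime.coprime_iff_not_dvd hp).2 fun h => by
      obtain ⟨x, hx⟩ := exists_prime_orderOf_dvd_card' p h
      exact hs (hx ▸ orderOf_dvd_of_pow_eq_one (Subtype.ext x.2.1))).pow_left k
    have h4 : Nat.card G = Nat.card Z * Nat.card {x : G // x ^ p ^ k = 1} +
        ∑ z : G, Nat.card {y : G // y ∈ centralizer ({z} : Set G) ∧ y ^ p ^ k = 1 ∧ z ^ s = 1 ∧ z ∉ center G} := by
      rw [← e, Nat.card_congr (Equiv.subtypeUnivEquiv fun x => ⟨pow_card_eq_one', trivial⟩)] at h1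
      rw [h1, Nat.card_eq_fintype_card, Fintype.card_subtype, Finset.card_filter, Finset.sum_mul, ← Finset.sum_add_distrib]
      refine Finset.sum_congr rfl fun z _ => ?_
      have h7 : z ∈ Z ↔ z ^ s = 1 ∧ z ∈ center G := Iff.rfl
      by_cases h5 : z ^ s = 1 <;> by_cases h6 : z ∈ center G <;> simp [h5, h6, h7, cent_eq_top_iff.2]
    exact h3.dvd_of_dvd_mul_left ((Nat.dvd_add_left h2).1 (h4 ▸ e ▸ dvd_mul_right _ _))
  have down : ∀ j a, a + j = k → p ^ a ∣ Nat.card {x : G // x ^ p ^ a = 1} := fun j => by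
    induction j with
    | zero => rintro a rfl; exact top
    | succ j ih2 =>
      intro a ha
      have h1 := (pow_dvd_pow p a.le_succ).trans (ih2 (a + 1) (by omega))
      rw [card_pow_succ hp, card_orderOf_eq, Nat.totient_prime_pow_succ hp] at h1
      exact (Nat.dvd_add_left (dvd_mul_of_dvd_right (dvd_mul_right _ _) _)).1 h1
  intro a
  rw [card_pow_gcd]
  obtain ⟨i, -, hi⟩ := (Nat.dvd_prime_pow hp).1 (Nat.gcd_dvd_left (p ^ a) (Nat.card G))
  have h1 : p ^ i ∣ p ^ k := (((Nat.Prime.coprime_iff_not_dvd hp).2 hs).pow_left i).dvd_of_dvd_mul_right (hi ▸ e ▸ Nat.gcd_dvd_right _ _)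
  rw [hi]
  exact down (k - i) i (Nat.add_sub_cancel' ((Nat.pow_dvd_pow_iff_le_right hp.one_lt).1 h1))

/-- **Frobenius' theorem**. -/
theorem frobenius [Finite G] {m : ℕ} (hm : m ∣ Nat.card G) : m ∣ Nat.card {x : G // x ^ m = 1} := by
  have := Fintype.ofFinite G
  refine (Nat.dvd_iff_prime_pow_dvd_dvd _ _).2 fun p a hp ha => ?_
  obtain ⟨k, s, hs, e⟩ := Nat.exists_eq_pow_mul_and_not_dvd (ne_zero_of_dvd_ne_zero (Nat.card_pos (α := G)).ne' hm) p hp.ne_one
  have hc := (Nat.Prime.coprime_iff_not_dvd hp).2 hs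
  refine ((hc.pow_left a).dvd_of_dvd_mul_right (e ▸ ha)).trans ?_
  have h1 := card_decomp (G := G) (hc.pow_left k) fun _ => True
  simp only [and_true] at h1
  rw [e, h1]
  exact dvd_decomp ((dvd_mul_right _ s).trans (e ▸ hm)) (· ^ s = 1) (by simp) fun z _ => frobenius_pow hp _ _ rfl k

theorem frobenius_gcd [Finite G] (n : ℕ) : n.gcd (Nat.card G) ∣ Nat.card {x : G // x ^ n = 1} :=
  card_pow_gcd (G := G) n ▸ frobenius (Nat.gcd_dvd_right _ _)

variable [Finite G] {p : ℕ} [hp : Fact p.Prime]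

theorem card_order_prime (h : p ∣ Nat.card G) : Nat.card {H : Subgroup G // Nat.card H = p} ≡ 1 [MOD p] := by
  have h1 := frobenius h
  have h2 := card_pow_succ (G := G) hp.out 0
  simp only [zero_add, pow_one, pow_zero, Nat.card_unique, PGrp.card_orderOf_eq_prime hp.out] at h2
  rw [h2] at h1
  refine (Nat.modEq_iff_dvd.2 ?_)
  have h3 := (Int.natCast_dvd_natCast.2 h1).sub (dvd_mul_left (p : ℤ) (Nat.card {H : Subgroup G // Nat.card H = p}))
  rw [Nat.cast_add, Nat.cast_mul, Nat.cast_sub hp.out.one_le] at h3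
  exact h3.trans (by push_cast; exact ⟨1, by ring⟩)

theorem card_comap_congr (N : Subgroup G) [N.Normal] (P : Subgroup G → Prop) :
    Nat.card {K : Subgroup (G ⧸ N) // P (K.comap (QuotientGroup.mk' N))} = Nat.card {H : Subgroup G // N ≤ H ∧ P H} :=
  Nat.card_congr (Equiv.ofBijective (fun K => ⟨K.1.comap (QuotientGroup.mk' N), Core.le_comap_mk' N _, K.2⟩)
    ⟨fun _ _ e => Subtype.ext (comap_injective (QuotientGroup.mk'_surjective N) (congrArg Subtype.val e)), fun H =>
      have h : (H.1.map (QuotientGroup.mk' N)).comap (QuotientGroup.mk' N) = H := by rw [Core.comap_map_mk', sup_of_le_right H.2.1]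
      ⟨⟨_, h.symm ▸ H.2.2⟩, Subtype.ext h⟩⟩)

theorem card_map_congr (L : Subgroup G) (P : Subgroup G → Prop) :
    Nat.card {K : Subgroup L // P (K.map L.subtype)} = Nat.card {H : Subgroup G // H ≤ L ∧ P H} :=
  Nat.card_congr (Equiv.ofBijective (fun K => ⟨K.1.map L.subtype, map_subtype_le _, K.2⟩)
    ⟨fun _ _ e => Subtype.ext (map_injective L.subtype_injective (congrArg Subtype.val e)), fun H =>
      have h := Core.map_subtype_subgroupOf_of_le H.2.1
      ⟨⟨_, h.symm ▸ H.2.2⟩, Subtype.ext h⟩⟩)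

theorem card_index_eq_card {A : Type*} [CommGroup A] [Finite A] (n : ℕ) :
    Nat.card {H : Subgroup A // H.index = n} = Nat.card {H : Subgroup A // Nat.card H = n} := by
  have : NeZero (Monoid.exponent A : ℂ) := ⟨by exact_mod_cast Monoid.exponent_ne_zero_of_finite⟩
  obtain ⟨e⟩ := CommGroup.monoidHom_mulEquiv_of_hasEnoughRootsOfUnity A ℂ
  refine Nat.card_congr (((CommGroup.subgroupOrderIsoSubgroupMonoidHom A ℂ).toEquiv.trans
    (OrderDual.ofDual.trans e.mapSubgroup.toEquiv)).subtypeEquiv fun H => ?_)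
  rw [index_eq_card, ← CommGroup.card_subgroupOrderIsoSubgroupMonoidHom ℂ H]
  exact Eq.congr_left (card_map_of_injective (f := e.toMonoidHom) e.injective).symm

theorem card_index_prime (hG : IsPGroup p G) [Nontrivial G] : Nat.card {H : Subgroup G // H.index = p} ≡ 1 [MOD p] := by
  have h1 := card_comap_congr (commutator G) (·.index = p)
  simp only [index_comap_of_surjective _ (QuotientGroup.mk'_surjective _)] at h1
  rw [Nat.card_congr (Equiv.subtypeEquivRight (q := fun H => commutator G ≤ H ∧ H.index = p) fun H => ⟨fun h =>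
    ⟨have := PGrp.normal_of_index_eq hG h; (PGrp.commutator_le_and_pow_mem_of_index_eq H h).1, h⟩, fun h => h.2⟩), ← h1]
  refine (card_index_eq_card (A := Abelianization G) p).symm ▸ card_order_prime ?_
  obtain ⟨M, hM, h2, -⟩ := PGrp.exists_index_eq_of_ne_top hG (H := commutator G) fun e =>
    (PGrp.commutator_top_lt hG ⊤ top_ne_bot).ne e
  exact h2 ▸ index_dvd_of_le hM

theorem card_over {s : ℕ} (h : p ^ (s + 1) ∣ Nat.card G) {A : Subgroup G} (hA : Nat.card A = p ^ s) :
    Nat.card {B : Subgroup G // A ≤ B ∧ Nat.card B = p ^ (s + 1)} ≡ 1 [MOD p] := by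
  have h1 := card_order_prime (G := normalizer (A : Set G) ⧸ A.subgroupOf (normalizer (A : Set G)))
    (Sylow.prime_dvd_card_quotient_normalizer h hA)
  have h2 := card_comap_congr (A.subgroupOf (normalizer (A : Set G))) (Nat.card · = p ^ (s + 1))
  have h3 := card_map_congr (normalizer (A : Set G)) fun B => A ≤ B ∧ Nat.card B = p ^ (s + 1)
  simp only [Core.card_comap_mk', Core.card_subgroupOf_of_le le_normalizer, hA, pow_succ' p s,
    Nat.mul_left_inj (pow_pos hp.out.pos s).ne'] at h2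
  rw [h2, Nat.card_congr (Equiv.subtypeEquivRight (q := fun K => A ≤ K.map (normalizer (A : Set G)).subtype ∧
    Nat.card (K.map (normalizer (A : Set G)).subtype) = p ^ (s + 1)) fun K => by
      rw [Core.card_map_subtype, pow_succ', ← map_le_map_iff_of_injective (subtype_injective _), Core.map_subtype_subgroupOf_of_le le_normalizer]),
    h3] at h1
  refine Eq.trans (congrArg (· % p) (Nat.card_congr (Equiv.subtypeEquivRight fun B => ⟨fun hB => ⟨?_, hB⟩, fun hB => hB.2⟩))) h1
  have h4 : (A.subgroupOf B).index = p := by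
    have := (A.subgroupOf B).index_mul_card
    rw [Core.card_subgroupOf_of_le hB.1, hA, hB.2, pow_succ'] at this
    exact Nat.eq_of_mul_eq_mul_right (pow_pos hp.out.pos s) this
  exact (normal_subgroupOf_iff_le_normalizer hB.1).1 (PGrp.normal_of_index_eq (IsPGroup.of_card hB.2) h4)

theorem card_under {s : ℕ} {B : Subgroup G} (hB : Nat.card B = p ^ (s + 1)) :
    Nat.card {A : Subgroup G // A ≤ B ∧ Nat.card A = p ^ s} ≡ 1 [MOD p] := by
  have : Nontrivial B := Finite.one_lt_card_iff_nontrivial.1 (hB ▸ Nat.one_lt_pow s.succ_ne_zero hp.out.one_lt)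
  rw [← card_map_congr B (Nat.card · = p ^ s)]
  refine Eq.trans (congrArg (· % p) (Nat.card_congr (Equiv.subtypeEquivRight fun A => ?_))) (card_index_prime (IsPGroup.of_card hB))
  have h := A.index_mul_card
  rw [hB, pow_succ'] at h
  rw [Core.card_map_subtype]
  exact ⟨fun e => Nat.eq_of_mul_eq_mul_right (pow_pos hp.out.pos s) (e ▸ h), fun e => Nat.eq_of_mul_eq_mul_left hp.out.pos (e ▸ h)⟩

omit hp in
theorem card_sigma_modEq {α : Type*} [Finite α] {β : α → Type*} [∀ a, Finite (β a)] (h : ∀ a, Nat.card (β a) ≡ 1 [MOD p]) :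
    Nat.card (Σ a, β a) ≡ Nat.card α [MOD p] := by
  have := Fintype.ofFinite α
  rw [Nat.card_sigma, Nat.card_eq_fintype_card, Fintype.card, Finset.card_eq_sum_ones]
  exact Nat.ModEq.sum fun a _ => h a

theorem card_order_pow : ∀ s : ℕ, p ^ s ∣ Nat.card G → Nat.card {H : Subgroup G // Nat.card H = p ^ s} ≡ 1 [MOD p]
  | 0, _ => by simp only [pow_zero, Subgroup.card_eq_one, Nat.card_unique]; rfl
  | s + 1, h => by
    refine .trans ?_ (card_order_pow s ((pow_dvd_pow p s.le_succ).trans h))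
    refine (card_sigma_modEq (β := fun B : {H : Subgroup G // Nat.card H = p ^ (s + 1)} =>
      {A : Subgroup G // A ≤ B.1 ∧ Nat.card A = p ^ s}) fun B => card_under B.2).symm.trans ?_
    refine .trans (by rw [Nat.card_congr]; exact
      { toFun := fun u => ⟨⟨u.2.1, u.2.2.2⟩, u.1.1, u.2.2.1, u.1.2⟩
        invFun := fun u => ⟨⟨u.2.1, u.2.2.2⟩, u.1.1, u.2.2.1, u.1.2⟩
        left_inv := fun _ => rfl
        right_inv := fun _ => rfl }) (card_sigma_modEq (β := fun A : {H : Subgroup G // Nat.card H = p ^ s} =>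
      {B : Subgroup G // A.1 ≤ B ∧ Nat.card B = p ^ (s + 1)}) fun A => card_over h A.2)

/-- In a `p`-group, a conjugation-invariant family of subgroups has as many normal members mod `p`. -/
theorem card_normal_modEq (hG : IsPGroup p G) (P : Subgroup G → Prop) (hP : ∀ (g : G) H, P H → P (MulAut.conj g • H)) :
    Nat.card {H : Subgroup G // H.Normal ∧ P H} ≡ Nat.card {H : Subgroup G // P H} [MOD p] := by
  let _ : MulAction G {H : Subgroup G // P H} :=
    { smul := fun g H => ⟨MulAut.conj g • H.1, hP g _ H.2⟩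
      one_smul := fun H => Subtype.ext (show MulAut.conj (1 : G) • H.1 = H.1 by rw [map_one, one_smul])
      mul_smul := fun a b H => Subtype.ext (show MulAut.conj (a * b) • H.1 = MulAut.conj a • MulAut.conj b • H.1 by rw [map_mul, mul_smul]) }
  refine .trans (by rw [Nat.card_congr]; exact
    { toFun := fun H => ⟨⟨H.1, H.2.2⟩, fun g => Subtype.ext (H.2.1.conjAct _)⟩
      invFun := fun H => ⟨H.1.1, .of_conjugate_fixed fun g => congrArg Subtype.val (H.2 g), H.1.2⟩
      left_inv := fun _ => rfl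
      right_inv := fun _ => rfl }) (hG.card_modEq_card_fixedPoints _).symm

end Cfsg.Lib.FG
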