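import Cfsg.Agent.Lib.Wal.Main
import Cfsg.Agent.Lib.Layer.SymO
import Cfsg.Agent.Lib.Hall.Product
import Cfsg.Agent.Lib.Hall.ClassSize
import Cfsg.Agent.Lib.Known.PSL2
import Cfsg.Agent.Lib.Transfer.Apps
import Cfsg.Agent.Lib.BG1.PLength

/-! Perfect groups with abelian Sylow `2`-subgroups have no proper subgroups of `2`-power index; Taunt's lemma. -/

set_option autoImplicit false
set_option linter.unusedSectionVars false

namespace Cfsg.Lib.FG

open Subgroup Cfsg.Lib.Transfer

universe u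

variable {G : Type u} [Group G] [Finite G]

theorem perfect_of_simple [IsSimpleGroup G] (hG : ¬ IsMulCommutative G) : commutator G = ⊤ :=
  (IsSimpleGroup.eq_bot_or_eq_top_of_normal _ inferInstance).resolve_left fun h =>
    hG ((commutator_eq_bot_iff G).1 h)

theorem no_two_compl [IsSimpleGroup G] (hG : ¬ IsMulCommutative G) (S : Sylow 2 G) (hc : IsMulCommutative S)
    {M : Subgroup G} (hM : ¬ 2 ∣ Nat.card M) {k : ℕ} (hi : M.index ∣ 2 ^ k) : False := by
  haveI : Fact (Nat.Prime 2) := ⟨Nat.prime_two⟩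
  have ev : ∀ (X : Type u) [Group X] [Finite X] [IsSimpleGroup X], ¬ IsMulCommutative X → 2 ∣ Nat.card X :=
    fun X _ _ _ h => (FT.even_card_of_simple X fun e => h ⟨⟨e⟩⟩).two_dvd
  obtain ⟨j, -, hj⟩ := (Nat.dvd_prime_pow Nat.prime_two).1 hi
  have h1 : M.index ≤ Nat.card S := Nat.le_of_dvd Nat.card_pos (by
    rw [hj, S.card_eq_multiplicity]
    exact pow_dvd_pow _ ((Nat.prime_two.pow_dvd_iff_le_factorization Nat.card_pos.ne').1 (hj ▸ M.index_dvd_card)))
  rcases (Wal.walter_aux G inferInstance hG S (Amalg.syl_top S) hc).2 with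
    ⟨h4, -⟩ | ⟨-, F, _, _, ⟨n, hn, hF⟩, ⟨e⟩⟩ | ⟨t, E, K, h⟩
  · rw [Layer.SymO.eq_top_of_index_le_four (perfect_of_simple hG) (h1.trans h4.le), card_top] at hM
    exact hM (ev G hG)
  · rw [← Nat.card_eq_fintype_card] at hF
    haveI : CharP F 2 := charP_of_card_eq_prime_pow (Nat.card_eq_fintype_card.symm.trans hF)
    have q4 : 4 ≤ Nat.card F := hF ▸ Nat.pow_le_pow_right two_pos hn
    have q2 := Known.char_dvd_natCard (F := F) 2
    have hc := card_map_of_injective (K := M) (f := e.toMonoidHom) e.injective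
    have hi' : (M.map e.toMonoidHom).index = 2 ^ j := hj ▸ index_map_equiv M e
    rw [← hc] at hM
    generalize M.map e.toMonoidHom = N at *
    have no : ∀ {X : Type} [Group X], 2 ∣ Nat.card X → ¬ Nonempty (N ≃* X) := fun h ⟨f⟩ =>
      hM (Nat.card_congr f.toEquiv ▸ h)
    rcases Linear.dickson_psl2 2 N with ⟨r, h1, ⟨-, h2⟩ | h2⟩ | ⟨P, h⟩ | ⟨-, h | h | h⟩ | ⟨h, -⟩ | ⟨R, h | ⟨h, -⟩⟩
    · have h3 := N.card_mul_index
      rw [Linear.card_PSL_two_of_even (even_iff_two_dvd.2 q2), hi', mul_assoc] at h3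
      obtain ⟨a, ha⟩ : ∃ a, Nat.card F = 2 * a + 4 := by obtain ⟨b, hb⟩ := q2; exact ⟨b - 2, by omega⟩
      have h4 := Nat.le_of_dvd Nat.card_pos (Nat.Coprime.dvd_of_dvd_mul_right (Nat.Coprime.pow_right j
        (Nat.coprime_two_right.2 (show Odd ((Nat.card F - 1) * (Nat.card F + 1)) from
          Odd.mul ⟨a + 1, by omega⟩ ⟨a + 2, by omega⟩))) (h3.symm ▸ dvd_mul_left _ _))
      rw [Linear.gcd_two_of_two_eq_zero (CharP.cast_eq_zero F 2), Nat.div_one, Nat.div_one] at h1
      have : r ≤ Nat.card F + 1 := h1.elim (Nat.le_of_dvd (by omega)) fun h => (Nat.le_of_dvd (by omega) h).trans (by omega)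
      rw [h2, ha, show 2 * a + 4 - 1 = 2 * a + 3 by omega] at h4
      rw [ha] at this
      nlinarith
    · exact no (DihedralGroup.nat_card ▸ dvd_mul_right _ _) h2
    · haveI := Linear.isSimpleGroup_PSL2 q4
      have h3 := (sylowIn_top P).sup_eq_of_relIndex le_top (relIndex_top_right N ▸ hi')
      have h4 : (P : Subgroup (Linear.PSL2 F)).Normal := normalizer_eq_top_iff.1 (top_le_iff.1 (h3 ▸ sup_le h le_normalizer))
      rcases h4.eq_bot_or_eq_top with h5 | h5
      · rw [h5, sup_bot_eq] at h3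
        rw [h3, card_top, ← Nat.card_congr e.toEquiv] at hM
        exact hM (ev G hG)
      · haveI := (h5 ▸ P.2 : IsPGroup 2 (⊤ : Subgroup (Linear.PSL2 F))).isNilpotent
        haveI : Group.IsSolvable (⊤ : Subgroup (Linear.PSL2 F)) := IsNilpotent.to_isSolvable
        exact Linear.not_isSolvable_PSL2 q4 (Hall.isSolvable_of_mulEquiv topEquiv)
    · exact no (by rw [nat_card_alternatingGroup]; simp [Nat.factorial]) h
    · exact no (by rw [Nat.card_perm]; simp [Nat.factorial]) h
    · exact no (by rw [nat_card_alternatingGroup]; simp [Nat.factorial]) h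
    · omega
    · obtain ⟨f⟩ := h
      exact hM (by
        rw [Nat.card_congr f.toEquiv, Linear.card_PGL_two, mul_assoc]
        exact (Known.char_dvd_natCard 2).mul_right _)
    · exact Nat.not_even_iff_odd.2 h (even_iff_two_dvd.2 (Known.char_dvd_natCard 2))
  · haveI := h.simple
    have hK : K ≤ centralizer {t} := (h.sup.ge.trans' le_sup_left).trans h.prod.2.1
    have hn : zpowers t ≤ normalizer (K : Set G) :=
      zpowers_le.2 (centralizer_le_normalizer _ (Hall.le_cent_iff.1 hK))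
    have h2 := BG1.relIndex_dvd_card_of_sup hn
    rw [Nat.card_zpowers, h.two] at h2
    have h3 : M ⊓ (K ⊔ zpowers t) ≤ K := fun m hm => Hall.mem_of_pow_mem_of_coprime (n := K.relIndex (K ⊔ zpowers t))
      (Nat.Coprime.of_dvd_left h2 ((Nat.Prime.coprime_iff_not_dvd Nat.prime_two).2 fun d =>
        hM (d.trans (M.orderOf_dvd_natCard hm.1)))) (pow_relIndex_mem' (sup_le le_normalizer hn) hm.2)
    have h4 := relIndex_mul_relIndex _ _ _ h3 (le_sup_left : K ≤ K ⊔ zpowers t)
    have h5 : K.relIndex (K ⊔ zpowers t) = 2 := ((Nat.dvd_prime Nat.prime_two).1 h2).resolve_left fun e => by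
      have ht : t ∈ K := relIndex_eq_one.1 e (mem_sup_right (mem_zpowers t))
      rcases (IsSimpleGroup.eq_bot_or_eq_top_of_normal (center K) inferInstance) with h6 | h6
      · have : (⟨t, ht⟩ : K) ∈ center K := mem_center_iff.2 fun g => Subtype.ext (Hall.mem_cent_iff.1 (hK g.2))
        rw [h6, mem_bot] at this
        exact Invol.ne_one_of_two h.two (congrArg Subtype.val this)
      · exact h.nc (center_eq_top_iff.1 h6)
    have h6 := (Hall.relIndex_le_index M (K ⊔ zpowers t)).trans (h.card ▸ h1)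
    rw [inf_relIndex_right, h5] at h4
    have h7 := Layer.SymO.eq_top_of_index_le_four (perfect_of_simple h.nc)
      (H := (M ⊓ (K ⊔ zpowers t)).subgroupOf K) (by rw [← relIndex]; omega)
    exact hM ((ev K h.nc).trans (card_dvd_of_le ((subgroupOf_eq_top.1 h7).trans inf_le_left)))

theorem comm_sylow_quot {p : ℕ} [Fact p.Prime] (h : ∀ P : Sylow p G, IsMulCommutative P) (N : Subgroup G) [N.Normal]
    (P : Sylow p (G ⧸ N)) : IsMulCommutative P := by
  obtain ⟨Q, rfl⟩ := Sylow.mapSurjective_surjective (QuotientGroup.mk'_surjective N) p P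
  haveI := h Q
  rw [Sylow.coe_mapSurjective]; infer_instance

theorem comm_sylow_sub {p : ℕ} (h : ∀ P : Sylow p G, IsMulCommutative P) (N : Subgroup G)
    (P : Sylow p N) : IsMulCommutative P := by
  obtain ⟨Q, hQ⟩ := (P.2.map N.subtype).exists_le_sylow
  exact ⟨⟨fun a b => Subtype.ext (Subtype.ext (Invol.commute_of_mulComm (h Q) (hQ ⟨a, a.2, rfl⟩) (hQ ⟨b, b.2, rfl⟩)))⟩⟩

theorem eq_top_of_index_two_pow (hG : commutator G = ⊤) (h : ∀ P : Sylow 2 G, IsMulCommutative P) {H : Subgroup G}
    {k : ℕ} (hi : H.index ∣ 2 ^ k) : H = ⊤ := by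
  haveI : Fact (Nat.Prime 2) := ⟨Nat.prime_two⟩
  induction hn : Nat.card G using Nat.strong_induction_on generalizing G with | _ n ih => ?_
  subst hn
  by_contra hH
  have hq : ∀ (N : Subgroup G) [N.Normal], commutator (G ⧸ N) = ⊤ := fun N _ => by
    rw [← map_top_of_surjective _ (QuotientGroup.mk'_surjective N), ← hG, _root_.commutator_def,
      _root_.commutator_def, map_commutator, map_top_of_surjective _ (QuotientGroup.mk'_surjective N)]
  have hN : ∀ (N : Subgroup G) [N.Normal], N ≠ ⊥ → H.map (QuotientGroup.mk' N) = ⊤ := fun N _ h0 =>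
    ih _ (Hall.card_quotient_lt h0) (hq N) (comm_sylow_quot h N)
      ((index_map_dvd _ (QuotientGroup.mk'_surjective N)).trans hi) rfl
  obtain ⟨T, hT⟩ := exists_sylowIn 2 H
  obtain ⟨P, hP⟩ := hT.2.exists_le_sylow
  have h1 : normalClosure (T : Set G) ≤ H := Hall.normalClosure_le_of_factor (Hall.factor_of_coprime_index
    (Nat.Coprime.of_dvd_right hi (((Nat.Prime.coprime_iff_not_dvd Nat.prime_two).2 P.not_dvd_index).symm.pow_right _)))
    (((le_centralizer_iff_isMulCommutative.2 (h P)).trans (centralizer_le hP)).trans (centralizer_le_normalizer _)) hT.1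
  have h2 : ¬ 2 ∣ Nat.card H := hT.eq_bot_iff.1 (le_bot_iff.1 (le_normalClosure.trans (le_of_eq (by_contra fun e =>
    hH (index_eq_one.1 (by rw [← sup_eq_left.2 h1, ← Hall.index_map_mk', hN _ e, index_top]))))))
  haveI := FT.odd_order_solvable H (Nat.not_even_iff_odd.1 fun e => h2 e.two_dvd)
  haveI : Nontrivial G := by
    by_contra hn
    haveI := not_nontrivial_iff_subsingleton.1 hn
    exact hH (Subsingleton.elim _ _)
  haveI : IsSimpleGroup G := ⟨fun N _ => or_iff_not_imp_left.2 fun h0 => by_contra fun h1 => by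
    haveI := Hall.isSolvable_map (QuotientGroup.mk' N) H
    rw [hN N h0] at this
    haveI := Hall.isSolvable_of_mulEquiv (topEquiv (G := G ⧸ N))
    haveI := QuotientGroup.nontrivial_iff.2 h1
    exact (Group.IsSolvable.commutator_lt_top_of_nontrivial (G ⧸ N)).ne (hq N)⟩
  exact no_two_compl (fun e => bot_ne_top (((commutator_eq_bot_iff G).2 e).symm.trans hG)) P (h P) h2 hi

/-- Taunt -/
theorem commutator_inf_center_eq_bot (h : ∀ (p : ℕ) [Fact p.Prime] (P : Sylow p G), IsMulCommutative P) :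
    commutator G ⊓ center G = ⊥ := by
  by_contra h0
  obtain ⟨p, hp, hd⟩ := Nat.exists_prime_and_dvd fun e => h0 (card_eq_one.1 e)
  haveI := Fact.mk hp
  obtain ⟨⟨x, hx⟩, ho⟩ := exists_prime_orderOf_dvd_card' p hd
  rw [← orderOf_coe] at ho
  obtain ⟨P, hP⟩ := ((Hall.isPGroup_zpowers_iff hp).2 ⟨1, ho.trans (pow_one p).symm⟩).exists_le_sylow
  have e := commutator_eq_bot_iff_le_centralizer.2 (le_centralizer_iff_isMulCommutative.2 (h p P))
  have := inf_commutator_inf_center_le (P : Subgroup G) (by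
    rw [e, relIndex_bot_left]; exact P.card_coprime_index.symm) ⟨⟨zpowers_le.1 hP, hx.1⟩, hx.2⟩
  rw [e, mem_bot] at this
  rw [this, orderOf_one] at ho
  exact hp.one_lt.ne ho

theorem exists_perfect_normal (h : ¬ Group.IsSolvable G) :
    ∃ E : Subgroup G, E.Normal ∧ ¬ Group.IsSolvable E ∧ commutator E = ⊤ := by
  obtain ⟨E, ⟨h1, h2⟩, hm⟩ := exists_minimal_of_wellFoundedLT (fun E : Subgroup G => E.Normal ∧ ¬ Group.IsSolvable E)
    ⟨⊤, inferInstance, fun _ => h (Hall.isSolvable_of_mulEquiv topEquiv)⟩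
  refine ⟨E, h1, h2, map_injective E.subtype_injective ?_⟩
  rw [map_subtype_commutator, ← MonoidHom.range_eq_map, range_subtype]
  refine le_antisymm (commutator_le_self E) (hm ⟨inferInstance, fun h3 => h2 ?_⟩ (commutator_le_self E))
  rw [← map_subtype_commutator] at h3
  haveI := Hall.isSolvable_of_mulEquiv (equivMapOfInjective (commutator E) _ E.subtype_injective).symm
  haveI : IsMulCommutative (E ⧸ commutator E) := Normal.quotient_commutative_iff_commutator_le.2 le_rfl
  haveI := Core.isNilpotent_of_isMulCommutative (E ⧸ commutator E)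
  exact Hall.isSolvable_of_normal_quotient (commutator E)

end Cfsg.Lib.FG
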