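import Cfsg.Agent.Lib.PGrp.Rank2
import Cfsg.Agent.Lib.PGrp.Critical
import Cfsg.Agent.Lib.PGrp.MaxClass
import Cfsg.Agent.Lib.Core.Basic
import Cfsg.Agent.Lib.Hall.Product

/-!
# Metacyclic `p`-groups for odd `p`
-/

set_option autoImplicit false

namespace Cfsg.Lib.FG

open Subgroup PGrp
open scoped commutatorElement

universe u

/-- A metacyclic `p`-group, `p` odd. -/
structure MC (p : ℕ) (G : Type*) [Group G] : Prop where
  odd : p ≠ 2
  pg : IsPGroup p G
  mc : IsMetacyclic G

variable {G : Type*} [Group G] [Finite G] {p : ℕ} [hp : Fact p.Prime]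

theorem card_commutator_congr {A B : Type*} [Group A] [Group B] (e : A ≃* B) : Nat.card (_root_.commutator A) = Nat.card (_root_.commutator B) := by
  rw [← card_map_of_injective (f := e.toMonoidHom) e.injective, map_commutator_eq, MonoidHom.range_eq_top_of_surjective _ e.surjective]; rfl

theorem card_commutator_eq_one_iff {A : Type*} [Group A] : Nat.card (_root_.commutator A) = 1 ↔ IsMulCommutative A := by
  rw [card_eq_one, commutator_eq_bot_iff_center_eq_top, center_eq_top_iff]

namespace MC

variable (h : MC p G) {n : ℕ}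
include h

omit [Finite G] hp in
theorem sub (H : Subgroup G) : MC p H := ⟨h.odd, h.pg.to_subgroup H, isMetacyclic_subgroup h.mc H⟩

theorem reg : WeakReg p G := weakReg_of_isMetacyclic h.odd h.pg h.mc

theorem mem_pow {s : ℕ} {g : G} : g ∈ powerClosure p s (⊤ : Subgroup G) ↔ ∃ z, g = z ^ p ^ s := by
  simp [h.reg.mem_powerClosure_iff h.pg]

theorem index_one_le : (powerClosure p 1 (⊤ : Subgroup G)).index ≤ p ^ 2 := by
  rw [h.reg.index_powerClosure h.pg]; exact card_omegaOne_le_of_isMetacyclic h.odd h.pg h.mc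

theorem index_one (hc : ¬ IsCyclic G) : (powerClosure p 1 (⊤ : Subgroup G)).index = p ^ 2 := by
  rw [h.reg.index_powerClosure h.pg, (omegaOne_of_isMetacyclic h.odd h.pg h.mc hc).2]

theorem frattini_eq : frattini G = powerClosure p 1 ⊤ := by
  refine le_antisymm ?_ (powerClosure_le_frattini h.pg)
  by_cases hc : IsCyclic G
  · refine frattini_le h.pg _ ?_ fun x => pow_mem_powerClosure_one (mem_top x)
    rw [card_eq_one.1 (card_commutator_eq_one_iff.2 inferInstance)]; exact bot_le
  refine (eq_of_le_of_card_le (powerClosure_le_frattini h.pg) (Nat.le_of_mul_le_mul_left (c := p ^ 2) ?_ (pow_pos hp.out.pos 2))).ge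
  rw [← h.index_one hc, index_mul_card, h.index_one hc, ← (frattini G).index_mul_card, index_eq_card, ← card_top (G := G ⧸ _)]
  refine Nat.mul_le_mul_right _ (pow_succ_le_card_of_lt ((h.pg.to_quotient _).to_subgroup _) (not_le.1 fun e => hc ?_))
  exact isCyclic_of_quotient_le_frattini _ le_rfl (isCyclic_top_iff.1 (isCyclic_of_card_le ((h.pg.to_quotient _).to_subgroup _) (e.trans (pow_one p).le)))

theorem relIndex_succ (s : ℕ) : (powerClosure p (s + 1) (⊤ : Subgroup G)).relIndex (powerClosure p s ⊤) =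
    (powerClosure p 1 (⊤ : Subgroup (powerClosure p s (⊤ : Subgroup G)))).index := by
  rw [relIndex]
  congr 1
  ext ⟨x, hx⟩
  rw [mem_subgroupOf, h.mem_pow, (h.sub _).mem_pow]
  refine ⟨fun ⟨z, e⟩ => ⟨⟨z ^ p ^ s, pow_mem_powerClosure (mem_top z)⟩, Subtype.ext (by simpa [← pow_mul, ← pow_succ] using e)⟩, fun ⟨⟨z, hz⟩, e⟩ => ?_⟩
  obtain ⟨w, rfl⟩ := h.mem_pow.1 hz
  exact ⟨w, by simpa [← pow_mul, ← pow_succ] using congrArg Subtype.val e⟩

theorem pow_succ_le (s : ℕ) : powerClosure p (s + 1) (⊤ : Subgroup G) ≤ powerClosure p s ⊤ :=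
  powerClosure_le_iff.2 fun x _ => h.mem_pow.2 ⟨x ^ p, by rw [← pow_mul, pow_succ']⟩

theorem index_pow_le (s : ℕ) : (powerClosure p s (⊤ : Subgroup G)).index ≤ p ^ (2 * s) := by
  induction s with
  | zero => simp [powerClosure_zero]
  | succ s ih =>
    rw [← relIndex_mul_index (h.pow_succ_le s), h.relIndex_succ, mul_add, pow_add, mul_comm]
    exact Nat.mul_le_mul ih (h.sub _).index_one_le

theorem pow_mem_center_iff {k : ℕ} {g : G} : g ^ p ^ k ∈ center G ↔ ∀ y : G, ⁅g, y⁆ ^ p ^ k = 1 := by
  simp only [mem_center_iff, ← h.reg.commute_pow_iff h.pg]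
  exact forall_congr' fun y => eq_comm

omit [Finite G] hp in
theorem normal_zpowers (x y : G) : (zpowers ⁅x, y⁆).Normal :=
  normal_of_le_of_isCyclic (isCyclic_commutator_of_isMetacyclic h.mc) (zpowers_le.2 (commutator_mem x y))

/-- The size of a conjugacy class is the order modulo the centre. -/
theorem index_cent_le_iff {k : ℕ} {g : G} : (centralizer ({g} : Set G)).index ≤ p ^ k ↔ g ^ p ^ k ∈ center G := by
  have hc := isCyclic_commutator_of_isMetacyclic h.mc
  rw [h.pow_mem_center_iff]
  refine ⟨fun e y => ?_, fun e => (index_centralizer_le_card (Z := omegaOne (p ^ k) (_root_.commutator G)) fun y => mem_omegaOne_of_pow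
    (commutator_mem _ _) (by rw [← commutatorElement_inv, inv_pow, e, inv_one])).trans (Nat.le_of_dvd (pow_pos hp.out.pos k)
      (card_dvd_of_isCyclic_of_pow (isCyclic_of_le' hc (omegaOne_le _ _)) (pow_eq_one_of_mem_omegaOne_of_comm (isMulCommutative_of_isCyclic hc))))⟩
  rw [← commutatorElement_inv, inv_pow, inv_eq_one, ← h.reg.commute_pow_iff h.pg]
  obtain ⟨j, hj⟩ := ((h.pg.to_subgroup (zpowers y)).index ((centralizer {g}).subgroupOf _))
  have h1 := (Nat.pow_le_pow_iff_right hp.out.one_lt).1 (hj.ge.trans ((relIndex_le_index _ _).trans e))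
  have := isMulCommutative_of_isCyclic (inferInstance : IsCyclic (zpowers y))
  have h2 := ((centralizer {g}).subgroupOf (zpowers y)).pow_index_mem ⟨y, mem_zpowers y⟩
  rw [hj, mem_subgroupOf, mem_centralizer_singleton_iff] at h2
  obtain ⟨i, rfl⟩ := Nat.exists_eq_add_of_le h1
  rw [pow_add, pow_mul]
  exact Commute.pow_left h2 _

theorem exists_gen {g : G} (hg : g ∉ frattini G) : ∃ y, Subgroup.closure ({g, y} : Set G) = ⊤ := by
  obtain ⟨y, hy⟩ := exists_sup_zpowers_eq_top_of_index_le h.pg (M := frattini G ⊔ zpowers g) (by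
    have h1 := relIndex_mul_index (le_sup_left (a := frattini G) (b := zpowers g))
    rw [relIndex_sup_zpowers hg (pow_mem_frattini h.pg g)] at h1
    exact Nat.le_of_mul_le_mul_left (by rw [h1, h.frattini_eq, ← sq]; exact h.index_one_le) hp.out.pos)
  exact ⟨y, frattini_nongenerating (by rw [closure_pair_eq_sup, sup_comm, ← sup_assoc, hy])⟩

omit [Finite G] hp in
theorem commutator_eq {x y : G} (e : Subgroup.closure ({x, y} : Set G) = ⊤) : _root_.commutator G = zpowers ⁅x, y⁆ := by
  have := h.normal_zpowers x y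
  refine le_antisymm ?_ (zpowers_le.2 (commutator_mem x y))
  rw [_root_.commutator, ← e]
  exact commutator_closure_pair_le ((normalizer_eq_top _).ge (mem_top x)) ((normalizer_eq_top _).ge (mem_top y)) (mem_zpowers _)

variable (hn : Nat.card (_root_.commutator G) = p ^ n)
include hn

theorem pow_mem_center (g : G) : g ^ p ^ n ∈ center G :=
  h.pow_mem_center_iff.2 fun y => orderOf_dvd_iff_pow_eq_one.1 (hn ▸ Subgroup.orderOf_dvd_natCard _ (commutator_mem g y))

theorem le_of_pow_mem_center {g : G} (hg : g ∉ frattini G) {k : ℕ} (e : g ^ p ^ k ∈ center G) : n ≤ k := by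
  obtain ⟨y, hy⟩ := h.exists_gen hg
  rw [h.commutator_eq hy, Nat.card_zpowers] at hn
  exact (Nat.pow_dvd_pow_iff_le_right hp.out.one_lt).1 (hn ▸ orderOf_dvd_of_pow_eq_one (h.pow_mem_center_iff.1 e y))

theorem mem_pow_iff {s : ℕ} (hs : s ≤ n) {g : G} : g ∈ powerClosure p s (⊤ : Subgroup G) ↔ g ^ p ^ (n - s) ∈ center G := by
  refine ⟨fun e => ?_, fun e => ?_⟩
  · obtain ⟨z, rfl⟩ := h.mem_pow.1 e
    rw [← pow_mul, ← pow_add, Nat.add_sub_cancel' hs]
    exact h.pow_mem_center hn z
  induction s with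
  | zero => simp [powerClosure_zero]
  | succ s ih =>
    obtain ⟨z, rfl⟩ := h.mem_pow.1 (ih (by omega) (by rw [show n - s = n - (s + 1) + 1 by omega, pow_succ, pow_mul]; exact pow_mem e _))
    by_cases hz : z ∈ frattini G
    · obtain ⟨w, rfl⟩ := h.mem_pow.1 (h.frattini_eq ▸ hz)
      exact h.mem_pow.2 ⟨w, by rw [← pow_mul, ← pow_add, add_comm]⟩
    · rw [← pow_mul, ← pow_add] at e
      have := h.le_of_pow_mem_center hn hz e
      omega

theorem pow_eq_center : powerClosure p n (⊤ : Subgroup G) = center G := by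
  ext g; simp [h.mem_pow_iff hn le_rfl]

theorem index_pow {s : ℕ} (hs : s ≤ n) : (powerClosure p s (⊤ : Subgroup G)).index = p ^ (2 * s) := by
  induction s with
  | zero => simp [powerClosure_zero]
  | succ s ih =>
    rw [← relIndex_mul_index (h.pow_succ_le s), h.relIndex_succ, ih (by omega), (h.sub _).index_one fun hc => ?_]; · ring
    obtain ⟨a, ha⟩ := exists_zpowers_eq_of_isCyclic hc
    obtain ⟨g, rfl⟩ := h.mem_pow.1 (ha.le (mem_zpowers a))
    have h1 : powerClosure p s ⊤ ≤ center G := ha ▸ zpowers_le.2 (h.pow_mem_center_iff.2 fun y => by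
      rw [← commutatorElement_inv, inv_pow, inv_eq_one, ← h.reg.commute_pow_iff h.pg]
      obtain ⟨k, hk⟩ := ha.ge (pow_mem_powerClosure (mem_top y))
      rw [← hk]
      exact ((Commute.refl g).pow_left _).zpow_left k)
    by_cases h2 : frattini G = ⊤
    · have := frattini_nongenerating (K := ⊥) (by rw [h2, bot_sup_eq])
      rw [eq_bot_iff.2 (le_top.trans this.ge : _root_.commutator G ≤ ⊥), card_bot, eq_comm, Nat.pow_eq_one] at hn
      have := hp.out.one_lt
      omega
    obtain ⟨z, -, hz⟩ := SetLike.exists_of_lt (lt_top_iff_ne_top.2 h2)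
    have := h.le_of_pow_mem_center hn hz (h1 (pow_mem_powerClosure (mem_top z)))
    omega

theorem index_center : (center G).index = p ^ (2 * n) := by rw [← h.pow_eq_center hn, h.index_pow hn le_rfl]

theorem card_commutator_max {M : Subgroup G} (hM : M.index = p) (h0 : n ≠ 0) : Nat.card (_root_.commutator M) = p ^ (n - 1) := by
  obtain ⟨n, rfl⟩ := Nat.exists_eq_succ_of_ne_zero h0
  have hc := isCyclic_commutator_of_isMetacyclic h.mc
  have h1 : frattini G ≤ M := fun x hx => (mem_frattini_iff h.pg).1 hx M hM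
  have h2 := h.index_pow hn (s := 1) (by omega)
  rw [← h.frattini_eq] at h2
  have h3 : (frattini G).relIndex M = p := Nat.eq_of_mul_eq_mul_right hp.out.pos (by rw [← sq, ← h2, ← relIndex_mul_index h1, hM])
  obtain ⟨g, hg, hg'⟩ : ∃ g ∈ M, g ∉ frattini G := by
    by_contra! e
    exact hp.out.ne_one (h3.symm.trans (relIndex_eq_one.2 e))
  have h4 : frattini G ⊔ zpowers g = M := eq_of_le_of_card_le (sup_le h1 (zpowers_le.2 hg)) (by
    rw [card_sup_zpowers hg' (pow_mem_frattini h.pg g), ← card_mul_relIndex_of_le h1, h3, mul_comm])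
  rw [← Core.card_map_subtype, map_subtype_commutator', Nat.succ_sub_one]
  refine Nat.dvd_antisymm ?_ ?_
  · have := omegaOne_normal (p ^ n) (_root_.commutator G)
    refine (card_dvd_of_le (?_ : _ ≤ omegaOne (p ^ n) (_root_.commutator G))).trans (card_dvd_of_isCyclic_of_pow (isCyclic_of_le' hc (omegaOne_le _ _))
      (pow_eq_one_of_mem_omegaOne_of_comm (isMulCommutative_of_isCyclic hc)))
    have h5 : M ≤ centralizer {g ^ p ^ n} := h4.ge.trans (sup_le ((eq_top_or_index_eq h.pg ((h.index_cent_le_iff.2 (by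
      rw [← pow_mul, ← pow_add]; exact h.pow_mem_center hn g)).trans (pow_one p).le)).elim (fun e => le_top.trans e.ge)
      fun e x hx => (mem_frattini_iff h.pg).1 hx _ e) (zpowers_le.2 (mem_centralizer_singleton_iff.2 ((Commute.refl g).pow_right _))))
    refine (commutator_mono le_rfl h4.ge).trans (commutator_sup_right_le (commutator_le.2 fun x _ y hy => ?_)
      ((Subgroup.commutator_comm M _).le.trans (commutator_le.2 fun y hy x hx => ?_)))
    · rw [← commutatorElement_inv]
      exact inv_mem (mem_omegaOne_of_pow (commutator_mem _ _) (h.pow_mem_center_iff.1 ((h.mem_pow_iff hn (s := 1) (by omega)).1 (h.frattini_eq ▸ hy)) x))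
    · obtain ⟨k, rfl⟩ := exists_pow_eq_of_mem_zpowers hy
      refine mem_omegaOne_of_pow (commutator_mem _ _) ((h.reg.commute_pow_iff h.pg _ _ _).1 ?_)
      rw [← pow_mul, mul_comm, pow_mul]
      exact Commute.pow_left (mem_centralizer_singleton_iff.1 (h5 hx)).symm _
  obtain ⟨y, hy⟩ := h.exists_gen hg'
  rw [h.commutator_eq hy, Nat.card_zpowers] at hn
  refine Dvd.dvd.trans ?_ (Subgroup.orderOf_dvd_natCard _ (commutator_mem_commutator (h1 (pow_mem_frattini h.pg y)) hg))
  obtain ⟨j, hj⟩ := IsPGroup.iff_orderOf.1 h.pg ⁅y ^ p, g⁆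
  have h5 := (h.reg.commute_pow_iff h.pg j _ _).2 (hj ▸ pow_orderOf_eq_one ⁅y ^ p, g⁆)
  rw [← pow_mul, ← pow_succ', h.reg.commute_pow_iff h.pg, ← commutatorElement_inv, inv_pow, inv_eq_one, ← orderOf_dvd_iff_pow_eq_one, hn,
    Nat.pow_dvd_pow_iff_le_right hp.out.one_lt] at h5
  exact hj ▸ pow_dvd_pow p (by omega)

omit h hn in
theorem card_aux (k : ℕ) : ∀ (G : Type u) [Group G] [Finite G], Nat.card G = k → MC p G → ∀ R : Subgroup G,
    (Nat.card R ≤ (_root_.commutator G).index → IsMulCommutative R) ∧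
    ((_root_.commutator G).index ≤ Nat.card R → Nat.card R = (_root_.commutator G).index * Nat.card (_root_.commutator R)) := by
  induction' k using Nat.strong_induction_on with k ih
  rintro G _ _ rfl h R
  have h0 := (_root_.commutator G).index_mul_card
  by_cases hc : IsMulCommutative G
  · rw [card_commutator_eq_one_iff.2 hc, mul_one] at h0
    rw [h0, card_commutator_eq_one_iff.2 inferInstance, mul_one]
    exact ⟨fun _ => inferInstance, le_antisymm (card_le_card_group R)⟩
  obtain ⟨n, hn⟩ := exists_card_eq_pow h.pg (_root_.commutator G)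
  have h1 : n ≠ 0 := by rintro rfl; exact hc (card_commutator_eq_one_iff.1 hn)
  by_cases hR : R = ⊤
  · subst hR
    rw [card_top, card_commutator_congr topEquiv, h0]
    refine ⟨fun e => absurd e (not_le.2 ?_), fun _ => rfl⟩
    rw [← h0, hn]
    exact lt_mul_of_one_lt_right (Nat.pos_of_ne_zero index_ne_zero_of_finite) (Nat.one_lt_pow h1 hp.out.one_lt)
  obtain ⟨M, hRM, hM, -⟩ := exists_index_eq_of_ne_top h.pg hR
  have h2 := ih _ (card_lt_of_ne_top fun e => hp.out.ne_one (by rw [← hM, e, index_top])) M rfl (h.sub M) (R.subgroupOf M)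
  have h3 : (_root_.commutator M).index = (_root_.commutator G).index := by
    have h3 := (_root_.commutator M).index_mul_card
    rw [h.card_commutator_max hn hM h1] at h3
    rw [← M.index_mul_card, hM, ← h3, hn, ← Nat.succ_pred_eq_of_ne_zero h1, pow_succ] at h0
    exact Nat.eq_of_mul_eq_mul_right (pow_pos hp.out.pos n) (by rw [← Nat.succ_pred_eq_of_ne_zero h1, pow_succ, h0]; simp; ring)
  rw [h3, Core.card_subgroupOf_of_le hRM, card_commutator_congr (subgroupOfEquivOfLe hRM), ← card_commutator_eq_one_iff,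
    card_commutator_congr (subgroupOfEquivOfLe hRM), card_commutator_eq_one_iff] at h2
  exact h2

omit hn

theorem comm_iff {R : Subgroup G} : IsMulCommutative R ↔ Nat.card R ≤ (_root_.commutator G).index :=
  ⟨fun e => (le_total _ _).elim id fun e' => by rw [(card_aux _ G rfl h R).2 e', card_commutator_eq_one_iff.2 e, mul_one], (card_aux _ G rfl h R).1⟩

theorem maximal_iff {R : Subgroup G} : Maximal (fun K : Subgroup G => IsMulCommutative K) R ↔ Nat.card R = (_root_.commutator G).index := by
  refine ⟨fun e => (h.comm_iff.1 e.1).eq_or_lt.elim id fun e' => ?_, fun e => ⟨h.comm_iff.2 e.le, fun K hK e' =>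
    (eq_of_le_of_card_le e' (e ▸ h.comm_iff.1 hK)).ge⟩⟩
  obtain ⟨L, h1, -, h2, -⟩ := exists_card_eq_mul_of_lt h.pg (lt_top_iff_ne_top.2 fun e => e'.not_ge (by
    rw [show R = ⊤ from e, card_top]; exact Nat.le_of_dvd Nat.card_pos (index_dvd_card _)))
  obtain ⟨i, hi⟩ := exists_card_eq_pow h.pg R
  obtain ⟨j, hj⟩ := h.pg.index (_root_.commutator G)
  have h3 := card_le_of_le (e.2 (h.comm_iff.2 (by
    rw [h2, hi, hj, ← pow_succ']; exact Nat.pow_le_pow_right hp.out.pos ((Nat.pow_lt_pow_iff_right hp.out.one_lt).1 (hi ▸ hj ▸ e')))) h1)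
  nlinarith [hp.out.two_le, Nat.card_pos (α := R)]

theorem card_cent_le {R : Subgroup G} (k : ℕ) : ∀ S : Subgroup G, R ≤ S → Nat.card S = p ^ k * Nat.card R →
    Nat.card (centralizer (R : Set G)) * Nat.card R ≤ Nat.card (centralizer (S : Set G)) * Nat.card S := by
  induction k generalizing R with
  | zero => exact fun S h1 h2 => by rw [eq_of_le_of_card_le h1 (by simp [h2])]
  | succ k ih =>
    intro S h1 h2
    obtain ⟨L, h3, h4, h5, h6⟩ := exists_card_eq_mul_of_lt h.pg (lt_of_le_of_ne h1 fun e => by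
      rw [← e] at h2
      exact (lt_mul_of_one_lt_left Nat.card_pos (Nat.one_lt_pow k.succ_ne_zero hp.out.one_lt)).ne h2)
    refine le_trans ?_ (ih S h4 (by rw [h2, h5, pow_succ, mul_assoc]))
    obtain ⟨x, hx, hx'⟩ : ∃ x ∈ L, x ∉ R := by
      by_contra! e
      nlinarith [card_le_of_le e, Nat.card_pos (α := R), hp.out.two_le]
    have h7 : x ^ p ∈ R := by
      have := (normal_subgroupOf_iff_le_normalizer h3).2 h6
      have h7 := (R.subgroupOf L).pow_index_mem ⟨x, hx⟩
      rwa [show (R.subgroupOf L).index = p from Nat.eq_of_mul_eq_mul_left Nat.card_pos (by rw [← relIndex, card_mul_relIndex_of_le h3, h5, mul_comm])] at h7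
    have h8 := eq_of_le_of_card_le (sup_le h3 (zpowers_le.2 hx)) (by rw [card_sup_zpowers_of_mem_normalizer (h6 hx) hx' h7, h5])
    have h9 := card_le_card_centralizer_mul (W := centralizer (R : Set G)) (Z := omegaOne p (_root_.commutator G)) (a := x) fun w hw =>
      mem_omegaOne_of_pow (commutator_mem _ _) (by
        rw [← commutatorElement_inv, inv_pow, inv_eq_one, ← pow_one p, ← h.reg.commute_pow_iff h.pg, pow_one]; exact hw _ h7)
    rw [← centralizer_zpowers, ← centralizer_sup', h8] at h9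
    rw [h5, ← mul_assoc]
    exact Nat.mul_le_mul_right _ (h9.trans (Nat.mul_le_mul_left _ (card_omegaOne_le_of_isCyclic (isCyclic_commutator_of_isMetacyclic h.mc))))

theorem card_cent_mono {R S : Subgroup G} (e : R ≤ S) :
    Nat.card R * Nat.card (centralizer (R : Set G)) ≤ Nat.card S * Nat.card (centralizer (S : Set G)) := by
  obtain ⟨k, hk⟩ := (h.pg.to_subgroup S).index (R.subgroupOf S)
  rw [mul_comm, mul_comm (Nat.card S)]
  exact h.card_cent_le k S e (by rw [← card_mul_relIndex_of_le e, mul_comm, relIndex, hk])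

theorem card_cent_le_top (R : Subgroup G) : Nat.card R * Nat.card (centralizer (R : Set G)) ≤ Nat.card G * Nat.card (center G) := by
  simpa only [card_top, Core.centralizer_top_eq_center] using h.card_cent_mono (le_top (a := R))

theorem card_cent {R : Subgroup G} (e : center G ≤ R) : Nat.card R * Nat.card (centralizer (R : Set G)) = Nat.card G * Nat.card (center G) :=
  le_antisymm (h.card_cent_le_top R) (by simpa only [centralizer_eq_top_of_le_center le_rfl, card_top, mul_comm] using h.card_cent_mono e)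

end MC

end Cfsg.Lib.FG
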