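import Cfsg.Agent.Lib.Hall.FC6
import Cfsg.Agent.Lib.Hall.Supersolvable
import Cfsg.Agent.Lib.BS.Thompson

/-! Groups with the same order type. -/

set_option autoImplicit false
set_option linter.unusedSectionVars false

namespace Cfsg.Lib.FG

open Subgroup Cfsg.Lib.Core Cfsg.Lib.Hall Cfsg.Lib.Coprime

variable {G H : Type*} [Group G] [Finite G] [Group H] [Finite H] {π : Set ℕ}

theorem exists_oequiv
    (hT : ∀ m : ℕ, Nat.card {g : G // orderOf g = m} = Nat.card {h : H // orderOf h = m}) :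
    ∃ e : G ≃ H, ∀ g, orderOf (e g) = orderOf g :=
  ⟨Equiv.ofFiberEquiv (f := orderOf) (g := orderOf) fun m => (Finite.card_eq.1 (hT m)).some,
    Equiv.ofFiberEquiv_map _⟩

theorem mem_hall_iff {M : Subgroup G} [M.Normal] (hM : IsPiHall π M) {g : G} :
    g ∈ M ↔ IsPiNumber π (orderOf g) :=
  ⟨isPi_orderOf_of_mem (isPiHall_iff.1 hM).1, fun h =>
    zpowers_le.1 (le_of_isPiHall_normal hM (by rwa [Nat.card_zpowers]))⟩

theorem card_hall_eq (e : Nat.card G = Nat.card H) {M : Subgroup G} (hM : IsPiHall π M) {K : Subgroup H}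
    (hK : IsPiHall π K) : Nat.card M = Nat.card K :=
  Nat.dvd_antisymm (dvd_card_of_isPiHall hK (isPiHall_iff.1 hM).1 (e ▸ M.card_subgroup_dvd_card))
    (dvd_card_of_isPiHall hM (isPiHall_iff.1 hK).1 (e ▸ K.card_subgroup_dvd_card))

theorem normal_of_oequiv (e : G ≃ H) (he : ∀ g, orderOf (e g) = orderOf g) {M : Subgroup G} [M.Normal]
    (hM : IsPiHall π M) {K : Subgroup H} (hK : IsPiHall π K) : K.Normal := by
  have key : (K : Set H) = e '' M := by
    refine Set.eq_of_subset_of_ncard_le (fun h hh => ?_) ?_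
    · obtain ⟨g, rfl⟩ := e.surjective h
      exact ⟨g, (mem_hall_iff hM).2 (he g ▸ isPi_orderOf_of_mem (isPiHall_iff.1 hK).1 hh), rfl⟩
    · rw [Set.ncard_image_of_injective _ e.injective]
      exact (card_hall_eq (Nat.card_congr e) hM hK).le
  refine ⟨fun x hx g => ?_⟩
  obtain ⟨y, hy⟩ := e.surjective (g * x * g⁻¹)
  refine (Set.ext_iff.1 key _).2 ⟨y, (mem_hall_iff hM).2 ?_, hy⟩
  rw [← he, hy, Invol.orderOf_conj]
  exact isPi_orderOf_of_mem (isPiHall_iff.1 hK).1 hx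

theorem hall_sup {σ : Set ℕ} {p : ℕ} [hp : Fact p.Prime] {K : Subgroup G} [K.Normal] (hK : IsPiHall π K)
    (P : Sylow p G) (h : ∀ q, q ∈ σ ↔ q = p ∨ q ∈ π) : IsPiHall σ (K ⊔ P) := by
  obtain ⟨h1, h2⟩ := isPiHall_iff.1 hK
  obtain ⟨h3, h4⟩ := isPiHall_iff.1 (isPiHall_sylow P)
  refine isPiHall_iff.2 ⟨isPi_sup' (h1.mono fun q hq => (h q).2 (Or.inr hq))
    (h3.mono fun q hq => (h q).2 (Or.inl hq)) le_normalizer_of_normal, fun q hq hd hs => ?_⟩
  exact ((h q).1 hs).elim (h4 q hq (hd.trans (index_dvd_of_le le_sup_right)))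
    (h2 q hq (hd.trans (index_dvd_of_le le_sup_left)))

theorem hall_congr {σ : Set ℕ} {K : Subgroup G} (hK : IsPiHall π K)
    (h : ∀ q, q.Prime → q ∣ Nat.card G → (q ∈ σ ↔ q ∈ π)) : IsPiHall σ K :=
  isPiHall_iff.2 ⟨fun q hq hd => (h q hq (hd.trans K.card_subgroup_dvd_card)).2 ((isPiHall_iff.1 hK).1 q hq hd),
    fun q hq hd hs => (isPiHall_iff.1 hK).2 q hq hd ((h q hq (hd.trans K.index_dvd_card)).1 hs)⟩

/-- a Sylow tower, built from the top prime down -/
theorem exists_tower (h : ∀ (p : ℕ) [Fact p.Prime] (K : Subgroup G) [K.Normal] (P : Sylow p G),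
      IsPiHall {q | p < q} K → (K ⊔ P).Normal) (m : ℕ) :
    ∃ K : Subgroup G, K.Normal ∧ IsPiHall {q | m ≤ q} K ∧ Group.IsSolvable K := by
  have base : ∀ m, Nat.card G < m → IsPiHall {q | m ≤ q} (⊥ : Subgroup G) := fun m hm =>
    isPiHall_iff.2 ⟨isPi_bot, fun q _ hd hs => by
      have := Nat.le_of_dvd Nat.card_pos (index_bot (G := G) ▸ hd); simp at hs; omega⟩
  by_cases hm : Nat.card G < m
  · exact ⟨⊥, inferInstance, base m hm, inferInstance⟩
  refine Nat.decreasingInduction (motive := fun m _ => ∃ K : Subgroup G, K.Normal ∧ IsPiHall {q | m ≤ q} K ∧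
    Group.IsSolvable K) (n := Nat.card G + 1) (fun k _ ⟨K, _, h1, _⟩ => ?_)
    ⟨⊥, inferInstance, base _ (by omega), inferInstance⟩ (by omega)
  by_cases hp : k.Prime
  · haveI := Fact.mk hp
    obtain ⟨P⟩ : Nonempty (Sylow k G) := inferInstance
    haveI := P.2.isNilpotent
    exact ⟨K ⊔ P, h k K P h1, hall_sup h1 P fun q => by simp; omega, isSolvable_sup_of_normal _ _⟩
  · refine ⟨K, inferInstance, hall_congr h1 fun q hq _ => ?_, inferInstance⟩
    have : q ≠ k := fun e => hp (e ▸ hq)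
    simp; omega

theorem ss_tower (hG : IsSupersolvable G) (m : ℕ) : ∃ K : Subgroup G, K.Normal ∧ IsPiHall {q | m ≤ q} K := by
  obtain ⟨K, h1, h2, -⟩ := exists_tower (G := G) (fun p _ K _ P hK => by
    haveI := ss_sylow_normal (ss_quotient hG K) (fun q hq hd => not_lt.1 ((isPiHall_iff.1 hK).2 q hq hd))
      (P.mapSurjective (QuotientGroup.mk'_surjective K))
    have := this.comap (QuotientGroup.mk' K)
    rwa [Sylow.coe_mapSurjective, comap_map_eq, QuotientGroup.ker_mk', sup_comm] at this) m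
  exact ⟨K, h1, h2⟩

theorem fc_exists_15 (h : FC G) [Group.IsSolvable G] (h3 : 3 ∣ Nat.card G) (h5 : 5 ∣ Nat.card G) :
    ∃ g : G, orderOf g = 15 := by
  obtain ⟨W, hW⟩ := exists_isPiHall (G := G) {2}ᶜ
  have k : ∀ q, q.Prime → q ≠ 2 → q ∣ Nat.card G → ∃ x : W, orderOf x = q := fun q hq h2 hd =>
    haveI := Fact.mk hq
    exists_prime_orderOf_dvd_card' q (dvd_card_of_isPiHall hW
      (fun r hr e => (Nat.prime_dvd_prime_iff_eq hr hq).1 e ▸ h2) hd)
  obtain ⟨x, hx⟩ := k 3 (by norm_num) (by norm_num) h3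
  obtain ⟨y, hy⟩ := k 5 (by norm_num) (by norm_num) h5
  have hF := h.subgroup W
  haveI := hF.isZGroup_of_odd (Nat.not_even_iff_odd.1 fun e =>
    (isPiHall_iff.1 hW).1 2 Nat.prime_two (even_iff_two_dvd.1 e) rfl)
  haveI := hF.normal_zpowers_of_isZGroup (y := x) (by rw [hx]; norm_num)
  have c : Commute x y := hF.commute_of_prime (by rw [hx]; norm_num) (by rw [hy]; norm_num)
    (le_normalizer_of_normal (mem_top y))
  exact ⟨(x * y : W), by rw [orderOf_coe, c.orderOf_mul_eq_mul_orderOf_of_coprime (by rw [hx, hy]; norm_num), hx, hy]⟩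

theorem s5_15 : ∀ σ : Equiv.Perm (Fin 5), σ ^ 15 = 1 → σ ^ 3 = 1 ∨ σ ^ 5 = 1 := by decide +kernel

theorem fc_no_15 (h : FC G) (hs : ¬ Group.IsSolvable G) :
    3 ∣ Nat.card G ∧ 5 ∣ Nat.card G ∧ ∀ g : G, orderOf g ≠ 15 := by
  obtain ⟨L, _, ⟨e⟩⟩ := h.solvable_or.resolve_left hs
  have hd : 120 ∣ Nat.card G := card_SL25 ▸ Nat.card_congr e.toEquiv ▸ L.card_subgroup_dvd_card
  refine ⟨Dvd.dvd.trans (by norm_num) hd, Dvd.dvd.trans (by norm_num) hd, fun g hg => ?_⟩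
  obtain ⟨f, hf, -⟩ := exists_hom_S5 e
  have h15 : g ^ 15 = 1 := hg ▸ pow_orderOf_eq_one g
  rcases s5_15 (f g) (by rw [← map_pow, h15, map_one]) with h1 | h1
  · have := (h.cent_SL25 e (c := g ^ 3) (hf ▸ (map_pow f g 3).trans h1) (n := 5) (by simp)
      (by rw [← pow_mul]; exact h15)).2
    rw [← pow_mul, ← orderOf_dvd_iff_pow_eq_one, hg] at this; omega
  · have := (h.cent_SL25 e (c := g ^ 5) (hf ▸ (map_pow f g 5).trans h1) (n := 3) (by simp)
      (by rw [← pow_mul]; exact h15)).2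
    rw [← pow_mul, ← orderOf_dvd_iff_pow_eq_one, hg] at this; omega

theorem frob_solvable_iff {K C : Subgroup G} [K.Normal] (h : Fpf K C) (ht : K ⊔ C = ⊤) (hK : K ≠ ⊥) (hC : C ≠ ⊥) :
    Group.IsSolvable G ↔ ¬ (3 ∣ Nat.card C ∧ 5 ∣ Nat.card C ∧ ∀ g : G, orderOf g ≠ 15) := by
  have hF := FC.of_fpf h le_normalizer_of_normal hK
  refine ⟨fun _ ⟨h3, h5, h15⟩ => ?_, fun hn => ?_⟩
  · obtain ⟨g, hg⟩ := fc_exists_15 hF h3 h5
    exact h15 g (by rw [orderOf_coe, hg])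
  have : Group.IsSolvable C := by_contra fun hs => by
    obtain ⟨h3, h5, h15⟩ := fc_no_15 hF hs
    refine hn ⟨h3, h5, fun g hg => ?_⟩
    by_cases hgK : g ∈ K
    · have := Nat.eq_one_of_dvd_coprimes (h.coprime le_normalizer_of_normal) h3
        (Dvd.dvd.trans (by norm_num) (hg ▸ K.orderOf_dvd_natCard hgK))
      omega
    · obtain ⟨k, -, r, hr, -, rfl⟩ := h.exists_conj le_normalizer_of_normal (ht ▸ mem_top g) hgK
      exact h15 ⟨r, hr⟩ (by rw [← orderOf_coe, ← hg, Invol.orderOf_conj])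
  haveI := BS.Fpf.nilpotent h le_normalizer_of_normal hC
  haveI := isSolvable_sup_of_normal C K
  rw [ht] at this
  exact isSolvable_of_mulEquiv topEquiv

end Cfsg.Lib.FG
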