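import Cfsg.Prelude.Def_LocalStructure
import Cfsg.Agent.Lib.BS.Field
import Cfsg.Agent.Lib.Small.Zsigmondy
import Cfsg.Agent.Lib.Hall.MinNormal
import Cfsg.Agent.Lib.Coprime.Sylow
import Cfsg.Agent.Lib.PGrp.Basic

/-!
# Minimal non-`p`-closed groups
-/

set_option autoImplicit false

namespace Cfsg.Lib.FG

open Subgroup
open scoped commutatorElement

variable {G : Type*} [Group G] [Finite G] {p q : ℕ} [hp : Fact p.Prime]

/-- An element of prime order `p` acting irreducibly and non-trivially on an abelian `q`-group. -/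
theorem card_eq_of_irr (hq : q.Prime) {A : Subgroup G} (hA : IsElementaryAbelian q A) {x : G} (hx : orderOf x = p) (hn : x ∈ normalizer (A : Set G))
    (hc : x ∉ centralizer (A : Set G)) (hirr : ∀ X ≤ A, x ∈ normalizer (X : Set G) → X = ⊥ ∨ X = A) : Nat.card A = q ^ orderOf (q : ZMod p) := by
  have := Fact.mk hq
  have := hA.1
  have h0 : A ≠ ⊥ := by rintro rfl; exact hc fun y hy => by simp [mem_bot.1 hy]
  obtain ⟨F, _, _, π, χ, h⟩ := BS.exists_sec (K := zpowers x) (bot_lt_iff_ne_bot.2 h0) (zpowers_le.2 hn) (le_top.trans (normalizer_eq_top ⊥).ge)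
    (commutator_eq_bot_iff_le_centralizer.2 (le_centralizer A)).le fun X _ h1 h2 => hirr X h1 (zpowers_le.1 h2)
  obtain ⟨k, hk⟩ := (Hall.isPGroup_of_pow_eq_one hA.2).exists_card_eq
  have h1 := h.card
  rw [card_bot, one_mul, hk, Nat.card_eq_fintype_card, eq_comm] at h1
  have := charP_of_card_eq_prime_pow h1
  have h2 : orderOf (χ x) = p := orderOf_eq_prime (by rw [← h.χ_pow (mem_zpowers x), ← hx, pow_orderOf_eq_one, h.χ_one]) fun e => hc fun a ha => by
    have h2 := h.conj x (mem_zpowers x) a ha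
    rw [e, one_mul, h.eq_iff (Coprime.conj_mem (zpowers_le.2 hn) (mem_zpowers x) ha) ha, mem_bot, inv_mul_eq_one, mul_inv_eq_iff_eq_mul] at h2
    exact h2.symm
  have h3 : orderOf (q : ZMod p) ∣ k := (Small.dvd_pow_sub_one_iff_orderOf_dvd hq.pos).1
    (h2 ▸ h1 ▸ orderOf_dvd_of_pow_eq_one (FiniteField.pow_card_sub_one_eq_one _ (h.χ_ne (mem_zpowers x))))
  have hk0 : 0 < k := Nat.pos_of_ne_zero (by rintro rfl; exact h0 (card_eq_one.1 hk))
  have h4 (c : F) (hc : c ≠ 0) (e : c ^ q ^ orderOf (q : ZMod p) = c) : c ^ (q ^ orderOf (q : ZMod p) - 1) = 1 :=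
    mul_right_cancel₀ hc (by rw [← pow_succ, Nat.sub_add_cancel (pow_pos hq.pos _), e, one_mul])
  have h5 : AddSubgroup.closure (χ '' zpowers x) ≤ (iterateFrobenius F q (orderOf (q : ZMod p))).toAddMonoidHom.eqLocus (AddMonoidHom.id F) := by
    rw [AddSubgroup.closure_le]
    rintro _ ⟨y, hy, rfl⟩
    obtain ⟨j, rfl⟩ := (mem_powers_iff_mem_zpowers.2 hy : y ∈ Submonoid.powers x)
    show χ (x ^ j) ^ q ^ _ = χ (x ^ j)
    rw [h.χ_pow (mem_zpowers x), ← pow_mul, mul_comm, pow_mul, ← Nat.sub_add_cancel (pow_pos hq.pos _), pow_succ, orderOf_dvd_iff_pow_eq_one.1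
      (h2.dvd.trans ((Small.dvd_pow_sub_one_iff_orderOf_dvd hq.pos).2 dvd_rfl)), one_mul]
  have h6 := (FiniteField.forall_pow_eq_one_iff F _).1 fun c => Units.ext (by simpa using h4 c c.ne_zero (h5 (h.span.ge (AddSubgroup.mem_top _))))
  have h7 := Nat.one_lt_pow (Nat.pos_of_dvd_of_pos h3 hk0).ne' hq.one_lt
  have h8 := Nat.le_of_dvd (by omega) h6
  rw [hk, le_antisymm (Nat.le_of_dvd hk0 h3) ((Nat.pow_le_pow_iff_right hq.one_lt).1 (by omega))]

omit [Finite G] hp in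
theorem isPClosed_iff : IsPClosed p G ↔ ∀ x y : G, (∃ k, x ^ p ^ k = 1) → (∃ k, y ^ p ^ k = 1) → ∃ k, (x * y) ^ p ^ k = 1 := by
  refine ⟨fun h x y ⟨_, hx⟩ ⟨_, hy⟩ => ?_, fun h P => ?_⟩
  · have h1 {x : G} {k : ℕ} (hx : x ^ p ^ k = 1) : x ∈ pCore p G := by
      obtain ⟨P, hP⟩ := (Core.isPGroup_zpowers_of_pow_eq_one hx).exists_le_sylow
      have := h P
      exact (Core.sylow_eq_pCore_of_normal P).le (hP (mem_zpowers x))
    exact Core.isPGroup_iff_forall_mem.1 (Core.isPGroup_pCore p G) _ (mul_mem (h1 hx) (h1 hy))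
  let S : Subgroup G := ⟨⟨⟨{x | ∃ k, x ^ p ^ k = 1}, h _ _⟩, 0, by simp⟩, fun ⟨k, e⟩ => ⟨k, by simp [e]⟩⟩
  rw [← P.is_maximal' (Q := S) (Core.isPGroup_iff_forall_mem.2 fun _ => id) (Core.isPGroup_iff_forall_mem.1 P.2)]
  exact ⟨fun x ⟨k, e⟩ g => ⟨k, by rw [conj_pow, e]; simp⟩⟩

omit [Finite G] hp in
theorem isPClosed_of_isPGroup (h : IsPGroup p G) : IsPClosed p G := fun P => by
  rw [← P.is_maximal' (h.to_subgroup ⊤) le_top]; infer_instance

omit [Finite G] hp in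
theorem isPClosed_of_quotient (N : Subgroup G) [N.Normal] (hN : IsPGroup p N) (h : IsPClosed p (G ⧸ N)) : IsPClosed p G :=
  isPClosed_iff.2 fun x y ⟨i, hx⟩ ⟨j, hy⟩ => by
    obtain ⟨k, hk⟩ := isPClosed_iff.1 h x y ⟨i, by rw [← QuotientGroup.mk_pow, hx]; rfl⟩ ⟨j, by rw [← QuotientGroup.mk_pow, hy]; rfl⟩
    obtain ⟨l, hl⟩ := Core.isPGroup_iff_forall_mem.1 hN _ ((QuotientGroup.eq_one_iff ((x * y) ^ p ^ k)).1 hk)
    exact ⟨k + l, by rw [pow_add, pow_mul, hl]⟩

theorem le_normalizer_of_isPClosed {H : Subgroup G} (h : IsPClosed p H) {P : Subgroup G} (hP : P ≤ H) (hP' : IsPGroup p P) (hi : ¬ p ∣ P.relIndex H) :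
    normalizer (H : Set G) ≤ normalizer (P : Set G) := by
  obtain ⟨S, rfl⟩ := Core.exists_sylow_map_subtype_eq hP hP' hi
  have := h S
  rw [Core.sylow_eq_pCore_of_normal]
  exact Core.normalizer_le_normalizer_pCoreOf H

theorem of_index (hq : q.Prime) (hpq : q ≠ p) (hna : ¬ IsMulCommutative G) (A : Subgroup G) [A.Normal] (hA : IsElementaryAbelian q A) (hidx : A.index = p)
    (hmin : ∀ B : Subgroup G, B.Normal → B ≤ A → B = ⊥ ∨ B = A) :
    Nat.card A = q ^ orderOf (q : ZMod p) ∧ ¬ IsPClosed p G ∧ (∀ H : Subgroup G, H ≠ ⊤ → IsPClosed p H) ∧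
      ∀ (N : Subgroup G) [N.Normal], N ≠ ⊥ → IsPClosed p (G ⧸ N) := by
  have := hA.1
  have := Fact.mk hq
  have hc : (Nat.card A).Coprime p := Core.coprime_card_of_isPGroup hq (Hall.isPGroup_of_pow_eq_one hA.2) ((Nat.coprime_primes hp.out hq).2 hpq.symm)
  have h1 {x : G} (hx : x ∉ A) : A ⊔ zpowers x = ⊤ := PGrp.eq_of_le_of_card_le le_top (by
    rw [PGrp.card_sup_zpowers hx (hidx ▸ A.pow_index_mem x), card_top, ← A.index_mul_card, hidx])
  have h2 {x : G} (hx : x ∉ A) : x ∉ centralizer (A : Set G) := fun e => hna (by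
    have := PGrp.isMulCommutative_sup_zpowers hA.1 e
    rw [h1 hx, PGrp.isMulCommutative_iff_forall] at this
    exact ⟨⟨fun a b => this a trivial b trivial⟩⟩)
  have h3 {x : G} (hx : x ∉ A) (X) (hX : X ≤ A) (e : x ∈ normalizer (X : Set G)) : X = ⊥ ∨ X = A :=
    hmin X (normalizer_eq_top_iff.1 (top_unique ((h1 hx).ge.trans (sup_le ((le_centralizer A).trans ((centralizer_le hX).trans
      (centralizer_le_normalizer _))) (zpowers_le.2 e))))) hX
  have h4 (N : Subgroup G) [N.Normal] (e : N ⊓ A = ⊥) : N = ⊥ := eq_bot_iff.2 fun x hx => by_contra fun e' => h2 (fun h => e' (e.le ⟨hx, h⟩))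
    (commutator_eq_bot_iff_le_centralizer.1 (eq_bot_iff.2 ((commutator_le_inf N A).trans e.le)) hx)
  obtain ⟨x, hx⟩ := exists_prime_orderOf_dvd_card' p (hidx ▸ A.index_dvd_card)
  have h5 : x ∉ A := fun e => hp.out.ne_one ((Nat.coprime_self p).1 (hx ▸ Core.coprime_orderOf_of_mem hc e))
  refine ⟨card_eq_of_irr hq hA hx ((normalizer_eq_top A).ge trivial) (h2 h5) (h3 h5), fun h => ?_, fun H hH => ?_, fun N _ hN => ?_⟩
  · obtain ⟨P, hP⟩ := (Core.isPGroup_zpowers_of_orderOf (hx.trans (pow_one p).symm)).exists_le_sylow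
    have := h P
    exact h5 ((h4 P (Core.inf_eq_bot_of_isPGroup_of_coprime hp.out P.2 hc)).le.trans bot_le (hP (mem_zpowers x)))
  · by_cases e : H ≤ A
    · exact fun P => by rw [Core.eq_bot_of_isPGroup_of_coprime hp.out P.2 ((Core.coprime_of_le hc e).coprime_dvd_left (card_subgroup_dvd_card _))]; infer_instance
    obtain ⟨y, hy, hy'⟩ := SetLike.not_le_iff_exists.1 e
    have h6 := (h3 hy' (A ⊓ H) inf_le_left (inf_normalizer_le_normalizer_inf ⟨(normalizer_eq_top A).ge trivial, le_normalizer hy⟩)).resolve_right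
      fun e => hH (top_unique ((h1 hy').ge.trans (sup_le (inf_eq_left.1 e) (zpowers_le.2 hy))))
    refine isPClosed_of_isPGroup (IsPGroup.of_card_dvd_pow (n := 1) ?_)
    rw [← PGrp.card_inf_mul_relIndex A H, h6, card_bot, one_mul, pow_one, ← hidx]
    exact relIndex_dvd_index_of_normal A H
  · refine isPClosed_of_isPGroup (IsPGroup.of_card_dvd_pow (n := 1) ?_)
    rw [pow_one, ← hidx]
    exact index_dvd_of_le (inf_eq_right.1 ((hmin _ inferInstance inf_le_right).resolve_left (mt (h4 N) hN)))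

theorem min_not_pClosed (hnc : ¬ IsPClosed p G) (hsub : ∀ H : Subgroup G, H ≠ ⊤ → IsPClosed p H)
    (hquo : ∀ (N : Subgroup G) [N.Normal], N ≠ ⊥ → IsPClosed p (G ⧸ N)) (hns : ¬ IsSimpleGroup G) :
    ∃ q : ℕ, q.Prime ∧ q ≠ p ∧ Nat.card G = p * q ^ orderOf (q : ZMod p) ∧ ∃ A : Subgroup G, A.Normal ∧ Nat.card A = q ^ orderOf (q : ZMod p) ∧
      IsElementaryAbelian q A ∧ ∀ B : Subgroup G, B.Normal → B ≤ A → B = ⊥ ∨ B = A := by
  have h0 (N : Subgroup G) [N.Normal] (hN : IsPGroup p N) : N = ⊥ := by_contra fun e => hnc (isPClosed_of_quotient N hN (hquo N e))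
  have : Nontrivial G := not_subsingleton_iff_nontrivial.1 fun _ => hnc fun P => by rw [Subsingleton.elim P.1 ⊥]; infer_instance
  obtain ⟨M, hM, hM1, hM2⟩ : ∃ M : Subgroup G, M.Normal ∧ M ≠ ⊥ ∧ M ≠ ⊤ := by
    by_contra! e
    exact hns ⟨fun M hM => or_iff_not_imp_left.2 (e M hM)⟩
  obtain ⟨N, _, hN, hNM, hmin⟩ := Hall.exists_minNormal_le M hM1
  obtain ⟨P⟩ := (inferInstance : Nonempty (Sylow p G))
  have h1 (H : Subgroup G) (hH : H ≠ ⊤) (e : (P : Subgroup G) ≤ H) : normalizer (H : Set G) ≤ normalizer P :=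
    le_normalizer_of_isPClosed (hsub H hH) e P.2 fun e' => P.not_dvd_index (e'.trans (relIndex_dvd_index_of_le e))
  have hP : ¬ (P : Subgroup G).Normal := fun _ => hnc fun Q => by
    obtain ⟨g, rfl⟩ := MulAction.exists_smul_eq G P Q
    rwa [Sylow.smul_eq_of_normal]
  have h2 : (P : Subgroup G) ⊓ N = ⊥ := @h0 _ (normalizer_eq_top_iff.1 (top_unique ((normalizer_eq_top N).ge.trans (le_normalizer_of_isPClosed
    (hsub N fun e => hM2 (top_unique (e.ge.trans hNM))) inf_le_right (P.2.to_le inf_le_left)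
      (by rw [inf_relIndex_right]; exact Core.not_dvd_relIndex_sylow_of_normal P N))))) (P.2.to_le inf_le_left)
  have h2' := (inf_comm _ _).trans h2
  have hc : (Nat.card P).Coprime (Nat.card N) := Core.coprime_card_of_isPGroup hp.out P.2 (((Nat.Prime.coprime_iff_not_dvd hp.out).2 (by
    rw [← PGrp.card_inf_mul_relIndex (P : Subgroup G) N, h2, card_bot, one_mul]; exact Core.not_dvd_relIndex_sylow_of_normal P N)).symm)
  have h3 : N ⊔ P = ⊤ := by_contra fun e => hP (normalizer_eq_top_iff.1 (top_unique (le_trans (by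
    have := (hquo N hN (P.mapSurjective (QuotientGroup.mk'_surjective N))).comap (QuotientGroup.mk' N)
    rw [Sylow.coe_mapSurjective, comap_map_eq, QuotientGroup.ker_mk', sup_comm] at this
    exact (normalizer_eq_top _).ge) (h1 _ e le_sup_right))))
  have hPN : (P : Subgroup G) ≤ normalizer N := le_top.trans (normalizer_eq_top N).ge
  have h4 {R : Subgroup G} (hR : IsPGroup p R) (Q : Subgroup G) (hQ : Q ≤ N) (e : R ≤ normalizer Q) (hR' : R ≤ P) (e' : Q ⊔ R ≠ ⊤) : Q ≤ centralizer R := by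
    have h5 := Coprime.coprime_card_of_le hc hR' hQ
    refine commutator_eq_bot_iff_le_centralizer.1 (eq_bot_iff.2 ((le_inf (Coprime.commutator_le_of_le_normalizer e) ?_).trans
      (Coprime.inf_eq_bot_of_coprime_card h5).le))
    refine le_normalizer_iff_commutator_le_right.1 (le_sup_left.trans (le_normalizer.trans (le_normalizer_of_isPClosed (hsub _ e') le_sup_right hR fun h6 => ?_)))
    have h7 := PGrp.card_mul_relIndex_of_le (le_sup_right (a := Q) (b := R))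
    rw [Coprime.card_sup_of_disjoint' e (Coprime.inf_eq_bot_of_coprime_card h5), mul_comm, Nat.mul_left_inj Nat.card_pos.ne'] at h7
    exact (Nat.Prime.coprime_iff_not_dvd hp.out).1 ((hc.coprime_dvd_left (Core.dvd_card_of_isPGroup_of_ne_bot hp.out P.2 fun e => hP (e ▸ inferInstance))).coprime_dvd_right
      (card_dvd_of_le hQ)) (h7 ▸ h6)
  have h5 : ¬ N ≤ centralizer P := fun e => hP (normalizer_eq_top_iff.1 (top_unique (h3.ge.trans (sup_le (e.trans (centralizer_le_normalizer _)) le_normalizer))))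
  obtain ⟨q, _, Q, hQ, hPQ, h6⟩ : ∃ (q : ℕ) (_ : Fact q.Prime) (Q : Subgroup G), Transfer.SylowIn q Q N ∧ (P : Subgroup G) ≤ normalizer Q ∧ ¬ Q ≤ centralizer P := by
    by_contra! e
    exact h5 (Coprime.le_of_forall_invariant_pgroup_le hPN hc (.inl (Coprime.isSolvable_of_isPGroup P.2)) fun q hq Q => e q hq Q)
  obtain rfl : Q = N := PGrp.eq_of_le_of_card_le hQ.le (Nat.eq_of_mul_eq_mul_right Nat.card_pos (by
    rw [← Coprime.card_sup_of_disjoint' hPN h2', h3, ← by_contra fun e => h6 (h4 P.2 Q hQ.le hPQ le_rfl e),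
      Coprime.card_sup_of_disjoint' hPQ (eq_bot_iff.2 ((inf_le_inf_right _ hQ.le).trans h2'.le))])).le
  have := Coprime.isSolvable_of_isPGroup hQ.isPGroup
  obtain ⟨hA, r, hr, hA'⟩ := Hall.minNormal_elementary hN hmin
  have h8 : (P : Subgroup G) ⊓ centralizer Q = ⊥ := @h0 _ (normalizer_eq_top_iff.1 (top_unique (h3.ge.trans (sup_le
    ((le_centralizer_iff.1 inf_le_right).trans (centralizer_le_normalizer _)) ((le_inf le_normalizer (le_top.trans (normalizer_eq_top _).ge)).trans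
      inf_normalizer_le_normalizer_inf))))) (P.2.to_le inf_le_left)
  obtain ⟨⟨x, hx⟩, hxp⟩ := exists_prime_orderOf_dvd_card' p (Core.dvd_card_of_isPGroup_of_ne_bot hp.out P.2 fun e => hP (e ▸ inferInstance))
  replace hxp : orderOf x = p := (orderOf_coe _).trans hxp
  have h9 : Q.index = p := by
    have h9 : Q ⊔ zpowers x = ⊤ := by_contra fun e => hp.out.ne_one (by
      rw [← hxp, mem_bot.1 (h8.le ⟨hx, zpowers_le.1 (le_centralizer_iff.1 (h4 (P.2.to_le (zpowers_le.2 hx)) Q le_rfl ((zpowers_le.2 hx).trans hPN)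
        (zpowers_le.2 hx) e))⟩), orderOf_one])
    refine Nat.eq_of_mul_eq_mul_right (Nat.card_pos (α := Q)) ?_
    rw [index_mul_card, ← card_top, ← h9, Coprime.card_sup_of_disjoint' ((zpowers_le.2 hx).trans hPN)
      (eq_bot_iff.2 ((inf_le_inf_left _ (zpowers_le.2 hx)).trans h2'.le)), Nat.card_zpowers, hxp, mul_comm]
  have h10 : r ≠ p := by rintro rfl; exact hN (h0 Q (Hall.isPGroup_of_pow_eq_one hA'))
  have h11 := (of_index hr h10 (fun _ => hP inferInstance) Q ⟨hA, hA'⟩ h9 hmin).1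
  exact ⟨r, hr, h10, by rw [← h11, ← h9, index_mul_card], Q, inferInstance, h11, ⟨hA, hA'⟩, hmin⟩

omit [Finite G] hp in
/-- A group which is minimal with respect to not being `p`-exponent closed is generated by two elements of order `p`. -/
theorem exists_gen_of_min (hnc : ¬ ∃ H : Subgroup G, (H : Set G) = {g : G | g ^ p = 1})
    (hsub : ∀ K : Subgroup G, K ≠ ⊤ → ∃ H : Subgroup K, (H : Set K) = {g : K | g ^ p = 1})
    (hquo : ∀ (N : Subgroup G) [N.Normal], N ≠ ⊥ → ∃ H : Subgroup (G ⧸ N), (H : Set (G ⧸ N)) = {g | g ^ p = 1}) :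
    ∃ x y : G, x ^ p = 1 ∧ y ^ p = 1 ∧ (x * y) ^ p ≠ 1 ∧ Subgroup.closure ({x, y} : Set G) = ⊤ ∧ ∀ (N : Subgroup G) [N.Normal], N ≠ ⊥ → ∀ g : G, g ^ p ∈ N := by
  obtain ⟨x, y, hx, hy, h⟩ : ∃ x y : G, x ^ p = 1 ∧ y ^ p = 1 ∧ (x * y) ^ p ≠ 1 := by
    by_contra! e
    exact hnc ⟨⟨⟨⟨{g | g ^ p = 1}, e _ _⟩, by simp⟩, fun h => by simpa using h⟩, rfl⟩
  have h1 : Subgroup.closure ({x, y} : Set G) = ⊤ := by_contra fun e => by
    obtain ⟨H, hH⟩ := hsub _ e
    exact h (congrArg Subtype.val (hH.le (mul_mem (hH.ge (Subtype.ext hx : (⟨x, subset_closure (by simp)⟩ : Subgroup.closure _) ^ p = 1))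
      (hH.ge (Subtype.ext hy : (⟨y, subset_closure (by simp)⟩ : Subgroup.closure _) ^ p = 1)))))
  refine ⟨x, y, hx, hy, h, h1, fun N _ hN g => ?_⟩
  obtain ⟨H, hH⟩ := hquo N hN
  have h2 : Subgroup.closure {x, y} ≤ H.comap (QuotientGroup.mk' N) := (closure_le _).2 (by
    rintro _ (rfl | rfl) <;> exact hH.ge (by simp [← QuotientGroup.mk_pow, hx, hy]))
  exact (QuotientGroup.eq_one_iff _).1 (hH.le (h2 (h1.ge trivial)))

end Cfsg.Lib.FG
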