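import Cfsg.Agent.Lib.Glaub.ZJ

/-!
# FG/PrimPair: primitive pairs of characteristic `p` are not `p`-stable
-/

set_option autoImplicit false

namespace Cfsg.Lib.FG

open Subgroup Cfsg.Lib.Amalg Cfsg.Lib.Glaub
open scoped commutatorElement

variable {G : Type*} [Group G] {p : ℕ} {M N E F V W : Subgroup G} {x : G}

/-- one half of a `p`-stable primitive pair of characteristic `p` -/
structure PP (p : ℕ) (M N : Subgroup G) : Prop where
  ch : CharP p M
  st : ∀ V, V ≤ M → M ≤ 𝐍 V → IsPGroup p V → Stab p M V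
  le : pCoreOf p M ≤ N
  pr : ∀ A, A ≠ ⊥ → A ≤ M → A ≤ N → M ≤ 𝐍 A → N ⊓ 𝐍 A ≤ M
  ne : M ≠ ⊥

/-- quadratic action of an element -/
def QuadEl (V : Subgroup G) (x : G) : Prop := ⁅⁅V, zpowers x⁆, zpowers x⁆ = ⊥

/-- `C_{O_p(M)}(E)` -/
abbrev Dd (p : ℕ) (M E : Subgroup G) : Subgroup G := pCoreOf p M ⊓ 𝐂 E

/-- `E⟨F^M⟩` -/
abbrev Nc (M E F : Subgroup G) : Subgroup G := E ⊔ ⨆ g : M, cj (g : G) F

/-- the invariant of the induction -/
structure PPGood (p : ℕ) (M N E F : Subgroup G) : Prop where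
  le : E ≤ pCoreOf p M
  nm : M ≤ 𝐍 E
  sc : Dd p M E ≤ E
  gen : E ≤ closure {x | x ∈ E ∧ QuadEl (Dd p N F) x}

theorem QuadEl.conj (h : QuadEl V x) (g : G) : QuadEl (cj g V) (g * x * g⁻¹) := by
  rw [QuadEl, ← cj_zpowers, ← cj_commutator, ← cj_commutator, h, cj_bot]

theorem QuadEl.mono (h : QuadEl V x) (hW : W ≤ V) : QuadEl W x :=
  eq_bot_iff.2 ((commutator_mono (commutator_mono hW le_rfl) le_rfl).trans h.le)

theorem quadEl_of_mem (hW : W ≤ 𝐍 V) (hV : V ≤ 𝐂 V) (hx : x ∈ V) : QuadEl W x :=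
  comm_eq_bot_iff.2 (((commutator_mono le_rfl (zpowers_le.2 hx)).trans (comm_le_right hW)).trans
    (hV.trans (centralizer_le (zpowers_le.2 hx))))

theorem quadEl_of_cent (hx : x ∈ 𝐂 V) : QuadEl V x := by
  rw [QuadEl, comm_eq_bot_iff'.2 (zpowers_le.2 hx), commutator_bot_left]

theorem norm_Dd (h : M ≤ 𝐍 E) : M ≤ 𝐍 (Dd p M E) :=
  Core.le_normalizer_inf (le_norm_op M) (h.trans (Core.normalizer_le_normalizer_centralizer E))

theorem PPGood.comm (h : PPGood p M N E F) : Dd p M E ≤ 𝐂 (Dd p M E) := inf_le_right.trans (centralizer_le h.sc)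

theorem PPGood.nm' (h : PPGood p M N E F) : M ≤ 𝐍 (Nc M E F) := Core.le_normalizer_sup h.nm (le_normalizer_iSup_cj F M)

theorem le_Nc : F ≤ Nc M E F := (le_iSup_cj F M).trans le_sup_right

theorem Dd_Nc_le : Dd p M (Nc M E F) ≤ Dd p M E := inf_le_inf_left _ (centralizer_le (le_sup_left : E ≤ Nc M E F))

variable [Finite G] [Fact p.Prime]

theorem PP.ab_le (hM : PP p M N) (hN : PP p N M) (h1 : V ≤ pCoreOf p N) (h2 : N ≤ 𝐍 V) (h3 : V ≤ 𝐂 V) : V ≤ pCoreOf p M :=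
  ((hM.st _ (op_le M) (le_norm_op M) (op_isPGroup M)).le (h1.trans hN.le)
    (comm_eq_bot_iff.2 ((comm_le_right (hM.le.trans h2)).trans h3))).trans (opMod_le_op hM.ch)

theorem PP.exists_good :
    ∃ L : Subgroup G → Subgroup G → Subgroup G, ∀ M N, PP p M N → PP p N M → L M N ≤ pCoreOf p M ∧ M ≤ 𝐍 (L M N) ∧ Dd p M (L M N) ≤ L M N ∧
      ∀ V, V ≤ pCoreOf p N → N ≤ 𝐍 V → V ≤ 𝐂 V → L M N ≤ closure {x | x ∈ L M N ∧ QuadEl V x} := by
  refine ⟨fun M N => closure {x | x ∈ pCoreOf p M ∧ ∀ g ∈ M, ∀ V, V ≤ pCoreOf p N → N ≤ 𝐍 V → V ≤ 𝐂 V → QuadEl (cj g V) x}, fun M N hM hN => ?_⟩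
  have h1 {g V} (hg : g ∈ M) (a : V ≤ pCoreOf p N) (b : N ≤ 𝐍 V) (c : V ≤ 𝐂 V) : cj g V ≤ pCoreOf p M :=
    cj_le_of_le_of_mem_normalizer (hM.ab_le hN a b c) (le_norm_op M hg)
  refine ⟨(closure_le _).2 fun x hx => hx.1, le_normalizer_of_cj_le fun m hm => ?_, fun x hx => Subgroup.subset_closure ⟨hx.1, fun g hg V a b c =>
    quadEl_of_cent (centralizer_le (fun y hy => ?_) hx.2)⟩,
    fun V a b c => closure_mono fun x hx => ⟨Subgroup.subset_closure hx, cj_one V ▸ hx.2 1 (one_mem _) V a b c⟩⟩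
  · rw [cj_closure]
    refine closure_mono ?_
    rintro _ ⟨x, hx, rfl⟩
    refine ⟨(mem_normalizer_iff.1 (le_norm_op M hm) x).1 hx.1, fun g hg V a b c => ?_⟩
    have := (hx.2 (m⁻¹ * g) (mul_mem (inv_mem hm) hg) V a b c).conj m
    rwa [← cj_mul, mul_inv_cancel_left] at this
  refine Subgroup.subset_closure ⟨h1 hg a b c hy, fun h hh W a' b' c' => quadEl_of_mem (V := cj g V) ?_ ?_ hy⟩
  · rw [← cj_normalizer]
    exact (h1 hh a' b' c').trans ((cj_of_mem_normalizer (le_norm_op M hg)).ge.trans (cj_mono g (hM.le.trans b)))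
  · rw [← cj_centralizer]; exact cj_mono g c

theorem PP.Nc_le_opMod (hM : PP p M N) (hE : PPGood p M N E F) (hF : PPGood p N M F E) (hN : PP p N M) :
    Nc M E F ≤ opMod p M (𝐂 (Dd p M E)) := by
  have h1 : M ≤ 𝐍 (𝐂 (Dd p M E)) := (norm_Dd hE.nm).trans (Core.normalizer_le_normalizer_centralizer _)
  refine sup_le ((le_inf (hE.le.trans (op_le M)) (le_cent_symm inf_le_right)).trans (inf_le_opMod h1))
    (iSup_cj_le (hF.gen.trans ((closure_le _).2 fun x hx => ?_)) (le_norm_opMod h1))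
  exact hM.st _ (inf_le_left.trans (op_le M)) (norm_Dd hE.nm) ((op_isPGroup M).to_le inf_le_left) x (hN.le (hF.le hx.1)) hx.2

theorem PP.Dd_ne_bot (hM : PP p M N) (hE : PPGood p M N E F) (hF : PPGood p N M F E) (hN : PP p N M) : Dd p M (Nc M E F) ≠ ⊥ := by
  obtain ⟨S, hS⟩ := exists_syl p M
  have h1 : S ⊓ 𝐂 S ≤ pCoreOf p M := hM.ch.le' (inf_le_left.trans hS.1) hS.op_le inf_le_right
  have h2 : S ⊓ 𝐂 S ≤ Dd p M E := le_inf h1 (inf_le_right.trans (centralizer_le (hE.le.trans hS.op_le)))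
  refine fun e => inf_center_ne_bot hS.2 le_rfl le_normalizer (fun e => hM.ch.op_ne_bot hM.ne (eq_bot_iff.2 (hS.op_le.trans e.le)))
    (eq_bot_iff.2 ((le_inf h1 (le_cent_symm ((hM.Nc_le_opMod hE hF hN).trans ((opMod_le_sup ?_ hS).trans (sup_le ?_ ?_))))).trans e.le))
  · exact (norm_Dd hE.nm).trans (Core.normalizer_le_normalizer_centralizer _)
  · exact inf_le_right.trans (centralizer_le h2)
  · exact inf_le_left.trans (le_cent_symm inf_le_right)

theorem PP.Dd_le (hM : PP p M N) (hE : PPGood p M N E F) (hN : PP p N M) : Dd p M (Nc M E F) ≤ Dd p N F :=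
  le_inf (hN.ab_le hM inf_le_left (norm_Dd hE.nm') (inf_le_right.trans (centralizer_le (Dd_Nc_le.trans (hE.sc.trans le_sup_left)))))
    (inf_le_right.trans (centralizer_le le_Nc))

theorem PP.Nc_le (hM : PP p M N) (hE : PPGood p M N E F) (hF : PPGood p N M F E) (hN : PP p N M) : Nc N F E ≤ pCoreOf p N := by
  have h0 : Nc N F E ≤ N := (hN.Nc_le_opMod hF hE hM).trans opMod_le
  have hn : N ≤ 𝐍 (pResidualOf p (Nc N F E)) := hF.nm'.trans (norm_le_norm_res _)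
  have h1 : pResidualOf p (Nc N F E) ≤ M := (le_inf ((res_le _).trans h0) ((res_mono (hN.Nc_le_opMod hF hE hM)).trans
    ((res_opMod_le ((norm_Dd hF.nm).trans (Core.normalizer_le_normalizer_centralizer _))).trans ((centralizer_le (hM.Dd_le hE hN)).trans
      (cent_le_norm _))))).trans (hM.pr _ (hM.Dd_ne_bot hE hF hN) (inf_le_left.trans (op_le M)) (inf_le_left.trans hM.le) (norm_Dd hE.nm'))
  have h2 : ⁅E, pResidualOf p (Nc N F E)⁆ ≤ pCoreOf p N := by
    refine le_trans ?_ (op_le_op ((res_le _).trans h0) hn)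
    exact le_op (comm_le_right ((hE.le.trans hM.le).trans hn)) (right_le_normalizer_comm _ _)
      ((op_isPGroup M).to_le ((comm_le_left (h1.trans hE.nm)).trans hE.le))
  have h3 : ⁅Nc N F E, pResidualOf p (Nc N F E)⁆ ≤ pCoreOf p N := by
    refine comm_sup_le ((comm_le_left (((res_le _).trans h0).trans hF.nm)).trans hF.le) (comm_iSup_le (fun g => ?_) fun g => ?_)
      ((le_sup_left.trans h0).trans (le_norm_op N)) ((le_sup_right.trans h0).trans (le_norm_op N))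
    · rw [← cj_of_mem_normalizer (hn g.2), ← cj_commutator]
      exact cj_le_of_le_of_mem_normalizer h2 (le_norm_op N g.2)
    · exact (cj_le_of_le_of_mem (hE.le.trans hM.le) g.2).trans (le_norm_op N)
  obtain ⟨T, hT, hET⟩ := exists_syl_ge ((op_isPGroup M).to_le hE.le) (le_Nc : E ≤ Nc N F E)
  have h4 : Nc N F E ≤ 𝐍 (T ⊔ pCoreOf p N) := hT.res_sup.ge.trans (sup_le (le_normalizer_of_comm_le (comm_sup_le
    (((commutator_mono hT.1 le_rfl).trans h3).trans le_sup_right) ((comm_le_left (((res_le _).trans h0).trans (le_norm_op N))).trans le_sup_right)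
    (le_normalizer_of_le le_sup_left) (le_normalizer_of_le le_sup_right))) (le_normalizer_of_le le_sup_left))
  have h5 : E ≤ pCoreOf p N := (le_inf le_Nc (hET.trans le_sup_left)).trans ((le_op inf_le_left (Core.le_normalizer_inf le_normalizer h4)
    ((isPGroup_sup_of_le_normalizer hT.2 (op_isPGroup N) ((hT.1.trans h0).trans (le_norm_op N))).to_le inf_le_right)).trans (op_le_op h0 hF.nm'))
  exact sup_le hF.le (iSup_cj_le h5 (le_norm_op N))

theorem PP.step (hM : PP p M N) (hE : PPGood p M N E F) (hF : PPGood p N M F E) (hN : PP p N M) : PPGood p M N (Nc M E F) (Nc N F E) := by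
  have h := hN.Dd_le hF hM
  refine ⟨hN.Nc_le hF hE hM, hE.nm', Dd_Nc_le.trans (hE.sc.trans le_sup_left), sup_le (fun x hx => subset_closure ⟨mem_sup_left hx,
    (quadEl_of_cent (le_cent_symm inf_le_right hx)).mono h⟩) (iSup_le fun g => (cj_mono _ hF.gen).trans ?_)⟩
  rw [cj_closure]
  refine closure_mono ?_
  rintro _ ⟨x, hx, rfl⟩
  exact ⟨mem_sup_right (le_iSup (fun g : M => cj (g : G) F) g (conj_mem_cj _ hx.1)),
    (hx.2.conj g).mono (h.trans (cj_of_mem_normalizer (norm_Dd hE.nm g.2)).ge)⟩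

theorem PP.eq (hM : PP p M N) (hN : PP p N M) : M = N := by
  obtain ⟨L, hL⟩ := PP.exists_good (G := G) (p := p)
  obtain ⟨a1, a2, a3, a4⟩ := hL M N hM hN
  obtain ⟨b1, b2, b3, b4⟩ := hL N M hN hM
  obtain ⟨⟨E, F⟩, ⟨hE, hF⟩, h⟩ := (Set.toFinite {x : Subgroup G × Subgroup G | PPGood p M N x.1 x.2 ∧ PPGood p N M x.2 x.1}).exists_maximal
    ⟨(L M N, L N M), ⟨a1, a2, a3, a4 _ inf_le_left (norm_Dd b2) (inf_le_right.trans (centralizer_le b3))⟩,
      ⟨b1, b2, b3, b4 _ inf_le_left (norm_Dd a2) (inf_le_right.trans (centralizer_le a3))⟩⟩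
  obtain ⟨h1, h2⟩ := h (y := (Nc M E F, Nc N F E)) ⟨hM.step hE hF hN, hN.step hF hE hM⟩ ⟨le_sup_left, le_sup_left⟩
  obtain rfl : E = F := le_antisymm (le_Nc.trans h2) (le_Nc.trans h1)
  have h3 : E ≠ ⊥ := fun e => hM.Dd_ne_bot hE hF hN (eq_bot_iff.2 (Dd_Nc_le.trans (hE.sc.trans e.le)))
  exact le_antisymm ((le_inf le_rfl hE.nm).trans (hN.pr E h3 (hE.le.trans hM.le) (hF.le.trans hN.le) hF.nm))
    ((le_inf le_rfl hF.nm).trans (hM.pr E h3 (hF.le.trans hN.le) (hE.le.trans hM.le) hE.nm))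

end Cfsg.Lib.FG
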