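import Cfsg.Agent.Lib.BG1.Sec4b
import Mathlib.GroupTheory.FiniteAbelian.Duality

/-!
# FG/Quad: squaring maps of `2`-groups of class two; coprime automorphisms of abelian `p`-groups
-/

set_option autoImplicit false

namespace Cfsg.Lib.FG

open Subgroup Finset
open scoped commutatorElement IsMulCommutative

theorem sum_sq {U : Type*} [Group U] [Fintype U] (f : U → ℤˣ) (b : U →* U →* ℤˣ) (h : ∀ x y, f (x * y) = f x * f y * b y x) :
    (∑ x, (f x : ℤ)) = 0 ∨ (∀ y ∈ b.ker, f y = 1) ∧ (∑ x, (f x : ℤ)) ^ 2 = Nat.card U * Nat.card b.ker := by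
  classical
  obtain ⟨g, hg⟩ : ∃ g : b.ker →* ℤˣ, ∀ y, g y = f y := ⟨.mk' (fun y => f y) fun x y => by simp [h, show b y = 1 from y.2], fun _ => rfl⟩
  have e : (∑ x, (f x : ℤ)) ^ 2 = Nat.card U * ∑ y : b.ker, (Units.coeHom ℤ).comp g y := by
    rw [sq, sum_mul, sum_congr rfl (g := fun x => ∑ y, f y * (Units.coeHom ℤ).comp (b y) x) fun x _ => ?_, sum_comm, mul_sum,
      ← Fintype.sum_subtype_add_sum_subtype (· ∈ b.ker), sum_eq_zero (s := univ (α := {y // y ∉ b.ker})) fun y _ => ?_, add_zero]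
    · exact sum_congr rfl fun y _ => by simp [show b y = 1 from y.2, hg]
    · rw [← mul_sum, sum_hom_units_eq_zero _ fun e => y.2 (MonoidHom.ext fun x => Units.ext (DFunLike.congr_fun e x)), mul_zero]
    rw [← Equiv.sum_comp (Equiv.mulLeft x), mul_sum]
    exact sum_congr rfl fun y _ => by simp [h, ← mul_assoc, ← Units.val_mul]
  rw [sum_hom_units] at e
  split_ifs at e with e'
  · exact .inr ⟨fun y hy => Units.ext (by simpa [hg] using DFunLike.congr_fun e' ⟨y, hy⟩), by simpa using e⟩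
  · exact .inl (by simpa using e)

theorem enough_two {W : Type*} [Group W] (hW : ∀ w : W, w ^ 2 = 1) : HasEnoughRootsOfUnity ℤ (Monoid.exponent W) :=
  have : HasEnoughRootsOfUnity ℤ 2 := ⟨⟨-1, .neg_one 0 two_ne_zero.symm⟩, inferInstance⟩
  .of_dvd ℤ (Monoid.exponent_dvd_of_forall_pow_eq_one hW)

theorem card_le_of_quad {U W : Type*} [Group U] [Finite U] [CommGroup W] [Finite W] (hU : IsPGroup 2 U) (hW : ∀ w : W, w ^ 2 = 1) (q : U → W)
    (b : U →* U →* W) (h : ∀ x y, q (x * y) = q x * q y * b y x) (F : Subgroup U) (hF : ∀ x, q x = 1 ↔ x ∈ F) (hb : F ≤ b.ker) :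
    Nat.card U ≤ Nat.card F * Nat.card W ^ 2 := by
  classical
  have := enough_two hW
  have := Fintype.ofFinite U
  have := Fintype.ofFinite (W →* ℤˣ)
  have h1 : ∑ l : W →* ℤˣ, ∑ x, (l (q x) : ℤ) = Nat.card F * Nat.card W := by
    rw [sum_comm, ← Fintype.sum_subtype_add_sum_subtype (· ∈ F), sum_eq_zero (s := univ (α := {y // y ∉ F})) fun y _ => ?_, add_zero,
      ← CommGroup.card_monoidHom_of_hasEnoughRootsOfUnity W ℤ]
    · simp [fun y : F => (hF y).2 y.2]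
    obtain ⟨l, hl⟩ := CommGroup.exists_apply_ne_one_of_hasEnoughRootsOfUnity W ℤ (mt (hF y).1 y.2)
    exact sum_hom_units_eq_zero ((Units.coeHom ℤ).comp (MonoidHom.eval (q y))) fun e => hl (Units.ext (DFunLike.congr_fun e l))
  obtain ⟨u, hu⟩ := hU.exists_card_eq
  obtain ⟨a, ha⟩ := (hU.to_subgroup F).exists_card_eq
  obtain ⟨w, hw⟩ := IsPGroup.exists_card_eq (p := 2) (G := W) fun w => ⟨1, hW w⟩
  by_contra! hlt
  have h2 : (2 ^ (a + w + 1) : ℤ) ∣ ∑ l : W →* ℤˣ, ∑ x, (l (q x) : ℤ) := dvd_sum fun l _ => by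
    rcases sum_sq (fun x => l (q x)) ((MonoidHom.compHom l).comp b) (by simp [h]) with e | ⟨-, e⟩
    · simp [e]
    obtain ⟨c, hc⟩ := card_dvd_of_le (show F ≤ ((MonoidHom.compHom l).comp b).ker from fun y hy => by simp [show b y = 1 from hb hy])
    rw [hu, ha, hw, ← pow_mul, ← pow_add, Nat.pow_lt_pow_iff_right one_lt_two] at hlt
    obtain ⟨d, rfl⟩ := Nat.exists_eq_add_of_lt hlt
    rw [hc, hu, ha] at e
    obtain ⟨k, hk⟩ : (2 ^ (a + w) : ℤ) ∣ ∑ x, (l (q x) : ℤ) := (Int.pow_dvd_pow_iff two_ne_zero).1 ⟨2 * 2 ^ d * c, by rw [e]; push_cast; ring⟩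
    rw [hk, pow_succ]
    refine mul_dvd_mul_left _ (Int.prime_two.dvd_of_dvd_pow (n := 2) ⟨2 ^ d * c, mul_left_cancel₀ (a := (2 ^ (a + w)) ^ 2) (by positivity) ?_⟩)
    rw [← mul_pow, ← hk, e]; push_cast; ring
  rw [h1, ha, hw, ← Nat.cast_mul, ← pow_add, Nat.cast_pow, Nat.cast_ofNat, pow_dvd_pow_iff two_ne_zero (by decide)] at h2
  omega

variable {G : Type*} [Group G] {U A B F : Subgroup G}

theorem exists_bil {W : Type*} [CommGroup W] (π : A →* W) (hA : A ≤ center G) (h1 : ∀ x ∈ U, x ^ 2 ∈ A) (h2 : ∀ x ∈ U, ∀ y ∈ U, ⁅x, y⁆ ∈ A) :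
    ∃ b : U →* U →* W, (∀ x y, b x y = π ⟨⁅x.1, y.1⁆, h2 _ x.2 _ y.2⟩) ∧
      ∀ x y : U, π ⟨(x * y).1 ^ 2, h1 _ (x * y).2⟩ = π ⟨x.1 ^ 2, h1 _ x.2⟩ * π ⟨y.1 ^ 2, h1 _ y.2⟩ * b y x := by
  have c (x y : U) (g : G) : Commute g ⁅x.1, y.1⁆ := mem_center_iff.1 (hA (h2 _ x.2 _ y.2)) g
  refine ⟨.mk' (fun x => .mk' (fun y => π ⟨⁅x.1, y.1⁆, h2 _ x.2 _ y.2⟩) fun y z => ?_) fun x y => MonoidHom.ext fun z => ?_, fun _ _ => rfl, fun x y => ?_⟩
  · rw [← map_mul]; exact congrArg π (Subtype.ext (by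
      change ⁅x.1, y.1 * z.1⁆ = ⁅x.1, y.1⁆ * ⁅x.1, z.1⁆; rw [← (c x z y).mul_inv_cancel]; group))
  · change π _ = π _ * π _
    rw [mul_comm, ← map_mul]; exact congrArg π (Subtype.ext (by
      change ⁅x.1 * y.1, z.1⁆ = ⁅y.1, z.1⁆ * ⁅x.1, z.1⁆; rw [← (c y z x).mul_inv_cancel]; group))
  · change π _ = π _ * π _ * π _
    rw [← map_mul, ← map_mul]; exact congrArg π (Subtype.ext (by
      change (x.1 * y.1) ^ 2 = x.1 ^ 2 * y.1 ^ 2 * ⁅y.1, x.1⁆
      rw [mul_assoc, (c y x _).eq, ← (c y x x).inv_mul_cancel, sq, sq, sq]; group))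

variable [Finite G]

theorem card_le_amb (hU : IsPGroup 2 U) (hA : A ≤ center G) (hA2 : ∀ a ∈ A, a ^ 2 = 1) (h1 : ∀ x ∈ U, x ^ 2 ∈ A) (h2 : ∀ x ∈ U, ∀ y ∈ U, ⁅x, y⁆ ∈ A)
    (hF : F ≤ U) (hq : ∀ x ∈ U, x ^ 2 ∈ B ↔ x ∈ F) (hb : ∀ x ∈ F, ∀ y ∈ U, ⁅x, y⁆ ∈ B) : Nat.card U ≤ Nat.card F * B.relIndex A ^ 2 := by
  have : IsMulCommutative A := ⟨⟨fun a b => Subtype.ext (mem_center_iff.1 (hA b.2) a)⟩⟩
  obtain ⟨b, b1, b2⟩ := exists_bil (QuotientGroup.mk' (B.subgroupOf A)) hA h1 h2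
  rw [← Nat.card_congr (subgroupOfEquivOfLe hF).toEquiv]
  exact card_le_of_quad hU (by rintro ⟨a⟩; exact congrArg QuotientGroup.mk (Subtype.ext (hA2 a a.2)))
    (fun x => QuotientGroup.mk' (B.subgroupOf A) ⟨x.1 ^ 2, h1 _ x.2⟩) b b2 _
    (fun x => (QuotientGroup.eq_one_iff _).trans (hq x x.2)) fun x hx => MonoidHom.ext fun y => (b1 x y).trans ((QuotientGroup.eq_one_iff _).2 (hb x hx y y.2))

theorem card_le_cube (hG : IsPGroup 2 G) (hcl : commutator G ≤ center G) (hexp : ∀ x : G, x ^ 4 = 1) {N : Subgroup G} (hN : ∀ x, x ∈ N ↔ x ^ 2 = 1) :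
    Nat.card G ≤ Nat.card N ^ 3 ∧ (Nat.card N ^ 3 ≤ Nat.card G → Cfsg.IsSpecial 2 G) := by
  have c (x y g : G) : Commute g ⁅x, y⁆ := mem_center_iff.1 (hcl (commutator_mem_commutator trivial trivial)) g
  have sq (x : G) : x ^ 2 ∈ N := (hN _).2 (by rw [← pow_mul, hexp])
  have : N.Normal := ⟨fun n hn g => (hN _).2 (by rw [conj_pow, (hN n).1 hn]; simp)⟩
  have hΦ : frattini G ≤ N := (Core.frattini_le_iff_of_isPGroup hG).2 ⟨commutator_le.2 fun x _ y _ => by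
    convert mul_mem (mul_mem (sq (x * y)) (sq (y⁻¹ * x⁻¹ * y))) (sq y⁻¹) using 1; simp only [pow_two]; group, sq⟩
  have cΦ := Core.commutator_le_frattini_of_isPGroup hG
  have h1 (x : G) := Core.pow_mem_frattini_of_isPGroup hG x
  have h2 (x y : G) : ⁅x, y⁆ ∈ frattini G := cΦ (commutator_mem_commutator trivial trivial)
  have hZ : frattini G ≤ center G := (Core.frattini_le_iff_of_isPGroup hG).2 ⟨hcl, fun x => mem_center_iff.2 fun g =>
    (commutatorElement_eq_one_iff_mul_comm.1 (by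
      rw [← (hN _).1 (hΦ (h2 x g)), pow_two ⁅x, g⁆, ← congrArg (· * ⁅x, g⁆) (c x g x).mul_inv_cancel, pow_two]; group)).symm⟩
  have hA2 (a) (ha : a ∈ frattini G) := (hN a).1 (hΦ ha)
  obtain ⟨U, U1, U2, U3, -⟩ := BG1.maschke_quo (A := ⊥) (N := frattini G) (V := ⊤) (U := N) Nat.prime_two (by simp) bot_le le_normalizer_of_normal le_top cΦ
    (fun x _ => h1 x) le_top bot_le bot_le
  have e1 := card_le_amb (B := ⊥) (hG.to_subgroup U) hZ hA2 (fun x _ => h1 x) (fun x _ y _ => h2 x y) U1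
    (fun x hx => ⟨fun e => U3 ⟨(hN x).2 e, hx⟩, hA2 x⟩) fun x hx y _ => commutatorElement_eq_one_iff_mul_comm.2 (mem_center_iff.1 (hZ hx) y).symm
  have e2 : Nat.card N * Nat.card U = Nat.card (frattini G) * Nat.card G := by
    rw [← Core.card_sup_mul_card_inf' (le_normalizer_of_normal (H := N)), U2, le_antisymm U3 (le_inf hΦ U1), card_top, mul_comm]
  rw [relIndex_bot_left] at e1
  have p1 : 0 < Nat.card (frattini G) := Nat.card_pos
  have p2 := card_le_of_le hΦ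
  have e3 : Nat.card G ≤ Nat.card N * Nat.card (frattini G) ^ 2 := Nat.le_of_mul_le_mul_left (by nlinarith) p1
  refine ⟨e3.trans (by rw [pow_succ' _ 2]; gcongr), fun h => ?_⟩
  obtain rfl : frattini G = N := eq_of_le_of_card_ge hΦ ((pow_le_pow_iff_left₀ zero_le' zero_le' two_ne_zero).1
    (Nat.le_of_mul_le_mul_left (((pow_succ' _ 2).ge.trans h).trans e3) Nat.card_pos))
  have hZ' : center G ≤ frattini G := fun z hz => by_contra fun e => by
    have z1 {x : G} (i : ℤ) : Commute x (z ^ i) := Commute.zpow_right (mem_center_iff.1 hz x) i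
    have := card_le_amb (B := zpowers (z ^ 2)) (F := frattini G ⊔ zpowers z) (hG.to_subgroup ⊤) hZ hA2 (fun x _ => h1 x) (fun x _ y _ => h2 x y) le_top
      (fun x _ => ⟨fun ⟨i, e⟩ => ?_, fun e => ?_⟩) fun x hx y _ => commutatorElement_eq_one_iff_mul_comm.2
      (mem_center_iff.1 (sup_le hZ (zpowers_le.2 hz) hx) y).symm ▸ one_mem _
    · have a1 := Core.card_sup_mul_card_inf' (le_normalizer_of_normal : zpowers z ≤ normalizer (frattini G : Set G))
      have a2 := Transfer.card_mul_relIndex (zpowers_le.2 (sq z))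
      have a3 : 1 < Nat.card (zpowers (z ^ 2)) := (one_lt_card_iff_ne_bot _).2 (zpowers_ne_bot.2 (mt (hN z).2 e))
      have a4 := a3.trans_le (card_le_of_le (le_inf (zpowers_le.2 (sq z)) (zpowers_le.2 (npow_mem_zpowers z 2))))
      have a5 : Nat.card (zpowers z) ≤ 4 := Nat.card_zpowers z ▸ orderOf_le_of_pow_eq_one four_pos (hexp z)
      rw [card_top] at this
      have a6 : Nat.card ↥(frattini G ⊔ zpowers z) ≤ 2 * Nat.card (frattini G) := by nlinarith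
      have a7 : (2 * (zpowers (z ^ 2)).relIndex (frattini G)) ^ 2 ≤ Nat.card (frattini G) ^ 2 := by gcongr; nlinarith
      nlinarith [Nat.mul_le_mul a6 a7, pow_pos p1 3]
    · rw [← inv_mul_cancel_right x (z ^ i)]
      exact mul_mem_sup ((hN _).2 (by rw [(z1 i).inv_right.mul_pow, ← e]; group)) (zpow_mem_zpowers z i)
    · obtain ⟨a, ha, _, ⟨i, rfl⟩, rfl⟩ := mem_sup_of_normal_left.1 e
      exact ⟨i, by rw [(z1 i).mul_pow, hA2 a ha]; group⟩
  refine ⟨hG, hZ.antisymm hZ', hcl.antisymm (hZ'.trans (by_contra fun e => ?_))⟩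
  have hU (x : G) : x ∈ ((powMonoidHom 2).comp Abelianization.of).ker ↔ x ^ 2 ∈ commutator G := by
    rw [← Abelianization.ker_of, MonoidHom.mem_ker, MonoidHom.mem_ker, map_pow]; rfl
  have := card_le_amb (B := ⊥) (F := frattini G) (hG.to_subgroup _) hcl (fun a ha => hA2 a (cΦ ha)) (fun x => (hU x).1)
    (fun x _ y _ => commutator_mem_commutator trivial trivial) (fun x hx => (hU x).2 (hA2 x hx ▸ one_mem _)) (fun x _ => (hN x).symm)
    fun x hx y _ => commutatorElement_eq_one_iff_mul_comm.2 (mem_center_iff.1 (hZ hx) y).symm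
  have a1 : ((powMonoidHom 2).comp Abelianization.of : G →* _).ker.index ≤ (commutator G).relIndex (frattini G) := by
    rw [index_ker, ← Abelianization.ker_of, relIndex_ker]
    exact card_le_of_le fun _ ⟨x, e⟩ => ⟨x ^ 2, h1 x, e ▸ map_pow _ _ _⟩
  have a2 := Transfer.card_mul_relIndex cΦ
  have a3 := Core.card_lt_of_lt (cΦ.lt_of_not_ge e)
  rw [relIndex_bot_left] at this
  have := Nat.mul_le_mul this a1
  rw [card_mul_index, pow_two, mul_assoc, mul_assoc, a2] at this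
  nlinarith [mul_pos p1 p1]

theorem card_sq_eq_one (hG : IsPGroup 2 G) (hΦ : Nat.card (frattini G) = 2) :
    2 * Nat.card {x : G // x ^ 2 = 1} = Nat.card G ∨ (2 * Nat.card {x : G // x ^ 2 = 1} - Nat.card G : ℤ) ^ 2 = Nat.card G * Nat.card (center G) ∧
      ∀ z ∈ center G, z ^ 2 = 1 := by
  classical
  have := Fintype.ofFinite G
  obtain ⟨π⟩ : Nonempty (frattini G ≃* ℤˣ) := ⟨mulEquivOfPrimeCardEq hΦ (by simp)⟩
  have hZ : frattini G ≤ center G := PGrp.le_center_of_card_eq hG _ hΦ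
  obtain ⟨b, b1, b2⟩ := exists_bil (U := ⊤) π.toMonoidHom hZ (fun x _ => Core.pow_mem_frattini_of_isPGroup hG x)
    fun x _ y _ => Core.commutator_le_frattini_of_isPGroup hG (commutator_mem_commutator trivial trivial)
  have h1 (a : frattini G) : (π a : ℤ) = if a.1 = 1 then 2 - 1 else 0 - 1 := by
    split_ifs with e
    · simp [show a = 1 from Subtype.ext e]
    · simp [(Int.units_eq_one_or _).resolve_left fun e' => e (congrArg Subtype.val (π.map_eq_one_iff.1 e'))]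
  have h2 : b.ker = (center G).subgroupOf ⊤ := Subgroup.ext fun x => by
    simp [MonoidHom.ext_iff, b1, mem_subgroupOf, mem_center_iff, commutatorElement_eq_one_iff_mul_comm, eq_comm (b := x.1 * _)]
  have h3 : ∑ x : (⊤ : Subgroup G), (π ⟨x.1 ^ 2, Core.pow_mem_frattini_of_isPGroup hG x⟩ : ℤ) = 2 * Nat.card {x : G // x ^ 2 = 1} - Nat.card G := by
    simp only [h1, ← ite_sub, sum_sub_distrib]
    refine (congrArg (· - _) (Fintype.sum_equiv topEquiv.toEquiv _ (fun x => if x ^ 2 = 1 then (2 : ℤ) else 0) fun _ => rfl)).trans ?_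
    rw [← sum_filter]
    simp [Fintype.card_subtype, mul_comm]
  refine (sum_sq (fun x : (⊤ : Subgroup G) => π ⟨x.1 ^ 2, Core.pow_mem_frattini_of_isPGroup hG x⟩) b b2).imp (fun e => by have := h3.symm.trans e; omega)
    fun ⟨a, e⟩ => ⟨?_, fun z hz => ?_⟩
  · rw [← h3, ← Nat.card_congr (subgroupOfEquivOfLe (le_top (a := center G))).toEquiv, ← h2, ← card_top]; exact e
  · exact congrArg Subtype.val (π.map_eq_one_iff.1 (a ⟨z, trivial⟩ (h2.ge hz)))

section abelian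

variable {M : Type*} [CommGroup M] [Finite M] {p : ℕ} [hp : Fact p.Prime] {X : Subgroup (MulAut M)} {B C : Subgroup M}

/-- `B` is `X`-invariant -/
def InvBy (X : Subgroup (MulAut M)) (B : Subgroup M) : Prop := ∀ x ∈ X, ∀ b ∈ B, x b ∈ B

theorem invBy_iff : (∀ x ∈ X, B.map x.toMonoidHom = B) ↔ InvBy X B :=
  ⟨fun h x hx _ hb => (h x hx).le (mem_map_of_mem _ hb), fun h x hx => eq_of_le_of_card_ge (map_le_iff_le_comap.2 (h x hx)) (card_map_of_injective x.injective).ge⟩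

omit [Finite M] in
theorem InvBy.inf (h : InvBy X B) (h' : InvBy X C) : InvBy X (B ⊓ C) := fun x hx b hb => ⟨h x hx b hb.1, h' x hx b hb.2⟩

omit [Finite M] in
theorem InvBy.sup (h : InvBy X B) (h' : InvBy X C) : InvBy X (B ⊔ C) := fun x hx _ hb => by
  obtain ⟨b, hb', c, hc, rfl⟩ := mem_sup.1 hb
  exact map_mul x b c ▸ mul_mem_sup (h x hx b hb') (h' x hx c hc)

omit [Finite M] in
theorem InvBy.comap (h : InvBy X B) (n : ℕ) : InvBy X (B.comap (powMonoidHom n)) := fun x hx b hb => by simpa using h x hx _ hb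

omit [Finite M] in
theorem InvBy.map (h : InvBy X B) (n : ℕ) : InvBy X (B.map (powMonoidHom n)) := fun x hx _ ⟨b, hb, e⟩ => ⟨x b, h x hx b hb, by simp [← e]⟩

omit [Finite M] in
theorem invBy_bot : InvBy X ⊥ := fun x _ b hb => by simpa using hb

theorem InvBy.maschke (hX : (Nat.card X).Coprime p) {N V U : Subgroup M} (hN : InvBy X N) (hV : InvBy X V) (hU : InvBy X U) (hNV : N ≤ V) (hUV : U ≤ V)
    (he : ∀ x ∈ V, x ^ p ∈ N) : ∃ W, InvBy X W ∧ N ≤ W ∧ U ⊔ W = V ∧ U ⊓ W ≤ N := by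
  obtain ⟨G, _, _, i, j, h, -⟩ := Coprime.exists_ambient X.subtype
  have k {B : Subgroup M} : (⊤ : Subgroup X).map j ≤ normalizer (B.map i : Set G) ↔ InvBy X B :=
    h.le_normalizer_iff.trans ⟨fun h x hx => h ⟨x, hx⟩ trivial, fun h x _ => h x x.2⟩
  obtain ⟨W, a, b, c, d⟩ := BG1.maschke_quo hp.1 (by rw [h.card_map_j, card_top]; exact hp.1.coprime_iff_not_dvd.1 hX.symm) (k.2 hN)
    (h.le_normalizer_map_iff.2 le_normalizer_of_normal) (map_mono hNV) (by rw [← map_commutator, commutator_self_eq_bot_iff.2 inferInstance, Subgroup.map_bot]; exact bot_le)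
    (fun _ ⟨x, hx, e⟩ => ⟨x ^ p, he x hx, e ▸ map_pow _ _ _⟩) (map_mono hUV) (k.2 hV) (k.2 hU)
  obtain ⟨W, -, rfl⟩ := h.exists_eq_map (le_sup_right.trans b.le)
  exact ⟨W, k.1 d, h.map_le_map.1 a, h.map_inj.1 ((Subgroup.map_sup _ _ _).trans b), h.map_le_map.1 ((map_inf_le _ _ _).trans c)⟩

theorem omega_of_irr (hM : IsPGroup p M) (h : ∀ B, InvBy X B → (∀ b ∈ B, b ^ p = 1) → B = ⊥ ∨ ∀ a, a ∈ B ↔ a ^ p = 1) (hB : InvBy X B) :
    ∃ i : ℕ, ∀ a, a ∈ B ↔ a ^ p ^ i = 1 := by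
  classical
  have h1 (i) (e : ¬ ∀ b ∈ B, b ^ p ^ i = 1) (a) (ha : a ^ p = 1) : a ∈ B.map (powMonoidHom (p ^ i)) := by
    refine ((((h _ ((hB.map _).inf (invBy_bot.comap p)) fun _ hb => hb.2).resolve_left fun e' => e fun b hb => by_contra fun e1 => ?_) a).2 ha).1
    obtain ⟨c, hc, c1⟩ := BG1.exists_mem_orderOf_eq_prime hp.1 (((hM.to_subgroup (B.map (powMonoidHom (p ^ i)))).card_eq_or_dvd).resolve_left
      fun e => e1 (mem_bot.1 ((card_eq_one.1 e).le (mem_map_of_mem _ hb))))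
    exact hp.1.ne_one (by rw [← c1, mem_bot.1 (e'.le ⟨hc, c1 ▸ pow_orderOf_eq_one c⟩), orderOf_one])
  have h2 (i) : (∀ j < i, ¬ ∀ b ∈ B, b ^ p ^ j = 1) → ∀ a, a ^ p ^ i = 1 → a ∈ B := by
    induction i with
    | zero => exact fun _ a ha => by simp [show a = 1 by simpa using ha]
    | succ i ih =>
      intro e a ha
      obtain ⟨b, hb, e'⟩ := h1 i (e i i.lt_succ_self) (a ^ p ^ i) (by rwa [← pow_mul, ← pow_succ])
      simpa using mul_mem (ih (fun j hj => e j (hj.trans i.lt_succ_self)) (a * b⁻¹) (by rw [mul_pow, inv_pow, ← e']; simp)) hb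
  obtain ⟨n, hn⟩ := hM.exists_card_eq
  have : ∃ i, ∀ b ∈ B, b ^ p ^ i = 1 := ⟨n, fun b _ => hn ▸ pow_card_eq_one'⟩
  exact ⟨Nat.find this, fun a => ⟨Nat.find_spec this a, h2 _ (fun j => Nat.find_min this) a⟩⟩

theorem irr_of_indec (hM : IsPGroup p M) (hX : (Nat.card X).Coprime p) (h : ∀ B C, InvBy X B → InvBy X C → B ⊓ C = ⊥ → B ⊔ C = ⊤ → B = ⊥ ∨ C = ⊥)
    (hB : InvBy X B) (h1 : ∀ b ∈ B, b ^ p = 1) : B = ⊥ ∨ ∀ a, a ∈ B ↔ a ^ p = 1 := by
  classical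
  refine or_iff_not_imp_left.2 fun hB1 a => ⟨h1 a, fun ha => ?_⟩
  obtain ⟨n, hn⟩ := hM.exists_card_eq
  have ex : ∃ i, ∀ b : M, b ^ p ^ (i + 1) = 1 := ⟨n, fun b => by rw [pow_succ, pow_mul, ← hn, pow_card_eq_one', one_pow]⟩
  have he := Nat.find_spec ex
  have he' : ∃ b : M, b ^ p ^ Nat.find ex ≠ 1 := by
    rcases e : Nat.find ex with _ | i
    · simpa using (B.bot_or_exists_ne_one.resolve_left hB1).imp fun _ h => h.2
    · exact not_forall.1 (Nat.find_min ex (e ▸ i.lt_succ_self))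
  generalize Nat.find ex = e at he he'
  obtain ⟨D, ⟨D1, d, hd, d1⟩, D2⟩ := exists_minimal_of_wellFoundedLT (fun D => InvBy X D ∧ ∃ b ∈ D, b ^ p ^ e ≠ 1)
    ⟨⊤, fun _ _ _ _ => trivial, he'.imp fun _ h => ⟨trivial, h⟩⟩
  have D3 {b} (hb : b ∈ D) (e1 : b ^ p ^ e = 1) : b ∈ D.map (powMonoidHom p) := by
    obtain ⟨W, w1, -, w3, w4⟩ := (D1.map p).maschke hX D1 (D1.inf (invBy_bot.comap (p ^ e))) (fun _ ⟨c, hc, e⟩ => e ▸ pow_mem hc p) inf_le_left
      fun x => mem_map_of_mem _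
    obtain ⟨u, hu, w, hw, rfl⟩ := mem_sup.1 (w3.ge hd)
    exact w4 ⟨⟨hb, e1⟩, D2 ⟨w1, w, hw, by simpa [mul_pow, show u ^ p ^ e = 1 from hu.2] using d1⟩ (le_sup_right.trans w3.le) hb⟩
  have D4 {b} (hb : b ∈ D) (e1 : b ^ p = 1) (j) (hj : j ≤ e) : ∃ c ∈ D, c ^ p ^ j = b := by
    induction j with
    | zero => exact ⟨b, hb, by simp⟩
    | succ j ih =>
      obtain ⟨c, hc, rfl⟩ := ih (by omega)
      obtain ⟨k, rfl⟩ := Nat.exists_eq_add_of_le hj
      obtain ⟨c, hc', rfl⟩ := D3 hc (by rw [pow_add, pow_mul, pow_succ, pow_mul, e1, one_pow])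
      exact ⟨c, hc', by simp [pow_succ', pow_mul]⟩
  obtain ⟨C, ⟨C1, C2⟩, C3⟩ := exists_maximal_of_wellFoundedGT (fun C => InvBy X C ∧ D ⊓ C = ⊥) ⟨⊥, invBy_bot, inf_bot_eq _⟩
  have C4 {a} (ha : a ^ p ∈ C) : a ∈ D ⊔ C := by
    have c : C ≤ C.comap (powMonoidHom p) := fun c hc => pow_mem hc p
    obtain ⟨W, w1, w2, w3, w4⟩ := C1.maschke hX (C1.comap p) ((C1.comap p).inf (D1.sup C1)) c inf_le_left fun _ h => h
    exact (w3.ge.trans (sup_le inf_le_right ((C3 ⟨w1, eq_bot_iff.2 fun w hw => C2.le ⟨hw.1, w4 ⟨⟨(le_sup_right.trans w3.le) hw.2, mem_sup_left hw.1⟩,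
      hw.2⟩⟩⟩ w2).trans le_sup_right))) ha
  have C5 (i) (hi : i ≤ e + 1) (a) (ha : a ^ p ^ i ∈ C) : a ∈ D ⊔ C := by
    induction i generalizing a with
    | zero => exact mem_sup_right (by simpa using ha)
    | succ i ih =>
      obtain ⟨b, hb, c, hc, e1⟩ := mem_sup.1 (C4 (a := a ^ p ^ i) (by rwa [← pow_mul, ← pow_succ]))
      rw [pow_succ, pow_mul, ← e1, mul_pow, mul_mem_cancel_right (pow_mem hc p)] at ha
      obtain ⟨b, hb', rfl⟩ := D4 hb (mem_bot.1 (C2.le ⟨pow_mem hb p, ha⟩)) i (by omega)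
      simpa using mul_mem (ih (by omega) (a * b⁻¹) (by rw [mul_pow, inv_pow, ← e1]; simpa)) (mem_sup_left hb')
  have t : D ⊔ C = ⊤ := eq_top_iff.2 fun a _ => C5 _ le_rfl a (he a ▸ one_mem _)
  rw [(h D C D1 C1 C2 t).resolve_left fun e => d1 (by simp [mem_bot.1 (e.le hd)]), sup_bot_eq] at t
  subst t
  obtain ⟨b, hb, b1⟩ := B.bot_or_exists_ne_one.resolve_left hB1
  obtain ⟨c, -, rfl⟩ := D4 trivial (h1 b hb) e le_rfl
  obtain ⟨a, -, rfl⟩ := D4 trivial ha e le_rfl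
  exact D2 ⟨hB.comap _, c, hb, b1⟩ le_top trivial

end abelian

end Cfsg.Lib.FG
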