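import Cfsg.Agent.Lib.Linear.SL2Sub
import Cfsg.Agent.Lib.Linear.PSL2Klein
import Cfsg.Agent.Lib.Linear.PSL2Sub
import Cfsg.Agent.Lib.Amalg.Ops
import Cfsg.Agent.Lib.Amalg.Syl

/-! The facts about `SL₂(q)`, `q` odd, used for two commuting copies meeting in their centre. -/

set_option autoImplicit false

namespace Cfsg.Lib.FG

open Subgroup Cfsg.Lib.Amalg Cfsg.Lib.Known Cfsg.Lib.Linear

variable {G : Type*} [Group G]

/-- Properties of a subgroup `L ≅ SL₂(q)` with central involution `z`. -/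
structure QP (L : Subgroup G) (z : G) (M : ℕ) : Prop where
  mem : z ∈ L
  z1 : z ≠ 1
  z2 : z * z = 1
  cen : ∀ x ∈ L, x * z = z * x
  inv : ∀ x ∈ L, x * x = 1 → x = 1 ∨ x = z
  ex : ∀ x ∈ L, x * x = z → ∃ a ∈ L, ∃ b ∈ L, a ^ 2 ^ M = z ∧ a * x = x * a ∧ b * b = z ∧
    b * x * b⁻¹ = x⁻¹ ∧ b * a * b⁻¹ = a⁻¹
  pw : ∀ y ∈ L, ∀ k : ℕ, y ^ 2 ^ k = 1 → y ^ 2 ^ (M + 1) = 1
  q8 : ∃ i ∈ L, ∃ k ∈ L, i * i = z ∧ k * k = z ∧ i * k = z * (k * i)
  zc : ∀ x ∈ L, (∀ g ∈ L, g * x * g⁻¹ = x ∨ g * x * g⁻¹ = z * x) → x = 1 ∨ x = z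
  nrm : ∀ N : Subgroup G, N ≤ L → L ≤ 𝐍 N → ¬ N ≤ zpowers z → ∀ i ∈ L, i * i = z → i ∈ N ∨ z * i ∈ N

theorem QP.map {G' : Type*} [Group G'] {L : Subgroup G} {z : G} {M : ℕ} (h : QP L z M)
    {f : G →* G'} (hf : Function.Injective f) : QP (L.map f) (f z) M where
  mem := mem_map_of_mem f h.mem
  z1 := fun e => h.z1 (hf (e.trans (map_one f).symm))
  z2 := by rw [← map_mul, h.z2, map_one]
  cen := by
    rintro _ ⟨x, hx, rfl⟩
    rw [← map_mul, h.cen x hx, map_mul]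
  inv := by
    rintro _ ⟨x, hx, rfl⟩ e
    rcases h.inv x hx (hf (by rw [map_mul, e, map_one])) with e | e
    · left; rw [e, map_one]
    · right; rw [e]
  ex := by
    rintro _ ⟨x, hx, rfl⟩ e
    obtain ⟨a, ha, b, hb, h1, h2, h3, h4, h5⟩ := h.ex x hx (hf (by rw [map_mul, e]))
    refine ⟨f a, mem_map_of_mem f ha, f b, mem_map_of_mem f hb, ?_, ?_, ?_, ?_, ?_⟩
    · rw [← map_pow, h1]
    · rw [← map_mul, h2, map_mul]
    · rw [← map_mul, h3]
    · rw [← map_inv, ← map_mul, ← map_mul, h4, map_inv]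
    · rw [← map_inv, ← map_mul, ← map_mul, h5, map_inv]
  pw := by
    rintro _ ⟨x, hx, rfl⟩ k e
    rw [← map_pow, h.pw x hx k (hf (by rw [map_pow, e, map_one])), map_one]
  q8 := by
    obtain ⟨i, hi, k, hk, h1, h2, h3⟩ := h.q8
    refine ⟨f i, mem_map_of_mem f hi, f k, mem_map_of_mem f hk, ?_, ?_, ?_⟩
    · rw [← map_mul, h1]
    · rw [← map_mul, h2]
    · rw [← map_mul, h3, map_mul, map_mul]
  zc := by
    rintro _ ⟨x, hx, rfl⟩ e
    rcases h.zc x hx (fun g hg => (e (f g) (mem_map_of_mem f hg)).imp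
      (fun e => hf (by rw [map_mul, map_mul, map_inv, e]))
      (fun e => hf (by rw [map_mul, map_mul, map_inv, e, map_mul]))) with e | e
    · left; rw [e, map_one]
    · right; rw [e]
  nrm := by
    rintro N hN hn hz _ ⟨i, hi, rfl⟩ e
    have h1 : N.comap f ≤ L := fun x hx => by
      obtain ⟨y, hy, e⟩ := hN hx
      rwa [← hf e]
    have h2 : L ≤ 𝐍 (N.comap f) := le_normalizer_of_cj_le fun g hg => cj_le_iff'.2 fun x hx => by
      show f (g * x * g⁻¹) ∈ N
      rw [map_mul, map_mul, map_inv]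
      exact (mem_normalizer_iff.1 (hn (mem_map_of_mem f hg)) _).1 hx
    have h3 : ¬ N.comap f ≤ zpowers z := fun hle => hz fun y hy => by
      obtain ⟨x, -, rfl⟩ := hN hy
      obtain ⟨k, hk⟩ := hle (show x ∈ N.comap f from hy)
      exact ⟨k, by rw [← hk]; exact (map_zpow f z k).symm⟩
    rcases h.nrm _ h1 h2 h3 i hi (hf (by rw [map_mul, e])) with e | e
    · exact Or.inl e
    · right; rw [← map_mul]; exact e

set_option synthInstance.maxSize 2000 in
set_option synthInstance.maxHeartbeats 200000 in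
theorem a4_aux : ∀ x : Equiv.Perm (Fin 4), Equiv.Perm.sign x = 1 → x ≠ 1 → x * x = 1 ∨
    ∃ g : Equiv.Perm (Fin 4), Equiv.Perm.sign g = 1 ∧ x * g * x⁻¹ * g⁻¹ ≠ 1 ∧
      x * g * x⁻¹ * g⁻¹ * (x * g * x⁻¹ * g⁻¹) = 1 := by
  decide +kernel

variable {F : Type*} [Field F] [Finite F]

theorem psl2_normal_inv (h2 : (2 : F) ≠ 0) (N : Subgroup (PSL2 F)) [hN : N.Normal] (h : N ≠ ⊥) :
    ∃ y ∈ N, orderOf y = 2 := by
  haveI : Fact (Nat.Prime 2) := ⟨Nat.prime_two⟩
  have hodd := odd_card_of_two_ne_zero h2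
  have h1 : 1 < Nat.card F := Finite.one_lt_card
  by_cases h4 : 4 ≤ Nat.card F
  · haveI := isSimpleGroup_PSL2 h4
    obtain ⟨i, -, hi, -⟩ := exists_quaternion_pair (F := F) h2
    refine ⟨(i : PSL2 F), by rw [(hN.eq_bot_or_eq_top).resolve_left h]; trivial, ?_⟩
    refine orderOf_eq_prime ?_ (psl2_mk_ne_one h2 hi)
    rw [pow_two, ← QuotientGroup.mk_mul, hi, QuotientGroup.eq_one_iff, mem_center_iff]
    intro g; simp
  · obtain ⟨e⟩ := psl2_three_equiv (F := F) (by obtain ⟨k, hk⟩ := hodd; omega)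
    obtain ⟨x, hx, hx1⟩ := (N.bot_or_exists_ne_one).resolve_left h
    have hx2 : ((e x : alternatingGroup (Fin 4)) : Equiv.Perm (Fin 4)) ≠ 1 := fun h =>
      hx1 (e.injective (by rw [map_one]; exact Subtype.ext h))
    rcases a4_aux _ (e x).2 hx2 with h | ⟨g, hg, h1, h2⟩
    · refine ⟨x, hx, orderOf_eq_prime ?_ hx1⟩
      apply e.injective
      rw [pow_two, map_mul, map_one]; exact Subtype.ext h
    · set g' := e.symm ⟨g, hg⟩
      have hc : e (x * g' * x⁻¹ * g'⁻¹) = e x * ⟨g, hg⟩ * (e x)⁻¹ * (⟨g, hg⟩ : alternatingGroup (Fin 4))⁻¹ := by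
        simp only [map_mul, map_inv, g', MulEquiv.apply_symm_apply]
      refine ⟨x * g' * x⁻¹ * g'⁻¹, ?_, orderOf_eq_prime ?_ ?_⟩
      · rw [mul_assoc, mul_assoc, ← mul_assoc g']
        exact N.mul_mem hx (hN.conj_mem _ (N.inv_mem hx) g')
      · apply e.injective
        rw [pow_two, map_mul, map_one, hc]; exact Subtype.ext h2
      · intro h
        rw [h, map_one] at hc
        exact h1 (congrArg Subtype.val hc).symm

theorem qp_SL2 (h2 : (2 : F) ≠ 0) : ∃ M, QP (⊤ : Subgroup (SL2 F)) (-1) M := by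
  haveI : Fact (Nat.Prime 2) := ⟨Nat.prime_two⟩
  have hz1 : (-1 : SL2 F) ≠ 1 := fun h => by
    have := congrArg (fun g : SL2 F => g 0 0) h
    simp at this
    exact h2 (by linear_combination -this)
  obtain ⟨P⟩ : Nonempty (Sylow 2 (SL2 F)) := inferInstance
  obtain ⟨φ, hφ⟩ := exists_hom_quaternion_two (F := F) h2
  have hP : ∃ k, 1 ≤ k ∧ Nonempty ((P : Subgroup (SL2 F)) ≃* QuaternionGroup (2 ^ k)) := by
    rcases sl2_two_subgroup h2 P.isPGroup' with hc | h
    · exfalso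
      obtain ⟨g, -, hg⟩ := (syl_top P).exists_conj_le (P := φ.range)
        ((isPGroup_quaternion_two.of_surjective φ.rangeRestrict φ.rangeRestrict_surjective)) le_top
      have h1 : IsCyclic (cj g φ.range) := Subgroup.isCyclic_of_le hg
      have h3 : IsCyclic φ.range := isCyclic_of_surjective (cjEquiv g φ.range).symm (cjEquiv g φ.range).symm.surjective
      exact not_isCyclic_quaternion_two (isCyclic_of_surjective (MonoidHom.ofInjective hφ).symm
        (MonoidHom.ofInjective hφ).symm.surjective)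
    · exact h
  obtain ⟨k, hk, ⟨e⟩⟩ := hP
  set ψ : QuaternionGroup (2 ^ k) →* SL2 F := (P : Subgroup (SL2 F)).subtype.comp e.symm.toMonoidHom
  have hψ : Function.Injective ψ := (P : Subgroup (SL2 F)).subtype_injective.comp e.symm.injective
  set a0 := ψ (QuaternionGroup.a 1)
  set b0 := ψ (QuaternionGroup.xa 0)
  have ha : orderOf a0 = 2 * 2 ^ k := by rw [orderOf_injective ψ hψ, QuaternionGroup.orderOf_a_one]
  have ha1 : a0 ^ 2 ^ k = -1 := by
    refine (sl2_mul_self_eq_one h2 ?_).resolve_left ?_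
    · rw [← pow_add, ← two_mul, ← ha, pow_orderOf_eq_one]
    · refine pow_ne_one_of_lt_orderOf (by positivity) ?_
      rw [ha]; have : 0 < 2 ^ k := by positivity
      omega
  have hb : b0 * b0 = -1 := by
    rw [← ha1, ← map_mul, ← map_pow, ← pow_two, QuaternionGroup.xa_sq, QuaternionGroup.a_one_pow]
  have hba : b0 * a0 * b0⁻¹ = a0⁻¹ := by
    rw [mul_inv_eq_iff_eq_mul, eq_inv_mul_iff_mul_eq, ← map_mul, ← map_mul]
    simp [b0]
  obtain ⟨k', rfl⟩ : ∃ k', k = k' + 1 := ⟨k - 1, by omega⟩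
  set x0 := a0 ^ 2 ^ k'
  have hx0 : x0 * x0 = -1 := by rw [← pow_add, ← two_mul, ← pow_succ', ha1]
  refine ⟨k' + 1, mem_top _, hz1, by simp, fun x _ => by simp, fun x _ => sl2_mul_self_eq_one h2,
    ?_, ?_, ?_, ?_, ?_⟩
  · intro x _ hx
    obtain ⟨c, hc⟩ := isConj_iff.1 (isConj_of_mul_self_eq_neg_one h2 hx0 hx)
    refine ⟨c * a0 * c⁻¹, mem_top _, c * b0 * c⁻¹, mem_top _, ?_, ?_, ?_, ?_, ?_⟩
    · rw [conj_pow, ha1]; simp
    · rw [← hc]
      have : a0 * x0 = x0 * a0 := (Commute.self_pow a0 _).eq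
      calc _ = c * (a0 * x0) * c⁻¹ := by group
        _ = _ := by rw [this]; group
    · calc _ = c * (b0 * b0) * c⁻¹ := by group
        _ = _ := by rw [hb]; simp
    · rw [← hc]
      have : b0 * x0 * b0⁻¹ = x0⁻¹ := by rw [← conj_pow, hba, inv_pow]
      calc _ = c * (b0 * x0 * b0⁻¹) * c⁻¹ := by group
        _ = _ := by rw [this]; group
    · calc _ = c * (b0 * a0 * b0⁻¹) * c⁻¹ := by group
        _ = _ := by rw [hba]; group
  · intro y _ m hy
    obtain ⟨g, -, hg⟩ := (syl_top P).exists_conj_le (isPGroup_zpowers_of_pow hy) le_top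
    have h1 : g * y * g⁻¹ ∈ (P : Subgroup (SL2 F)) := hg (conj_mem_cj g (mem_zpowers y))
    have h3 : (e ⟨_, h1⟩) ^ 2 ^ (k' + 1 + 1) = 1 := by
      apply Monoid.exponent_dvd_iff_forall_pow_eq_one.1
      rw [QuaternionGroup.exponent, pow_succ' 2 (k' + 1)]
      exact mul_dvd_mul_left _ (lcm_dvd dvd_rfl (dvd_pow_self 2 (by omega)))
    rw [← map_pow, map_eq_one_iff _ e.injective] at h3
    have h4 : (g * y * g⁻¹) ^ 2 ^ (k' + 1 + 1) = 1 := congrArg Subtype.val h3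
    rw [conj_pow] at h4
    simpa using h4
  · obtain ⟨i, j, hi, hj, hij⟩ := exists_quaternion_pair (F := F) h2
    exact ⟨i, mem_top _, j, mem_top _, hi, hj, by rw [hij]; simp⟩
  · intro x _ hx
    have hd := x.det_coe
    rw [Matrix.det_fin_two] at hd
    have key : ∀ g : SL2 F, (g : M2 F).trace = 2 → g * x = x * g := by
      intro g hg
      rcases hx g (mem_top _) with h | h
      · exact mul_inv_eq_iff_eq_mul.1 h
      · exfalso
        have h' : x⁻¹ * g * x = -g := by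
          rw [mul_inv_eq_iff_eq_mul] at h
          rw [mul_assoc, h]; simp
        have h3 := tr2_conj x⁻¹ g
        rw [inv_inv, h', tr2_neg, tr2_eq_trace, hg] at h3
        exact h2 (by
          have : (2 : F) * 2 = 0 := by linear_combination -h3
          exact (mul_self_eq_zero.1 this))
    have h1 := key (slMat 1 1 0 1 (by ring)) (by simp [slMat, Matrix.trace_fin_two]; ring)
    have h3 := key (slMat 1 0 1 1 (by ring)) (by simp [slMat, Matrix.trace_fin_two]; ring)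
    have h1' : !![1, 1; 0, 1] * (x : M2 F) = (x : M2 F) * !![1, 1; 0, 1] := congrArg Subtype.val h1
    have h3' : !![1, 0; 1, 1] * (x : M2 F) = (x : M2 F) * !![1, 0; 1, 1] := congrArg Subtype.val h3
    have e1 := congrFun (congrFun h1' 0) 0
    have e2 := congrFun (congrFun h1' 0) 1
    have e3 := congrFun (congrFun h3' 0) 0
    simp [Matrix.mul_apply, Fin.sum_univ_two, Matrix.vecMul, dotProduct] at e1 e2 e3
    apply sl2_mul_self_eq_one h2
    ext i j
    rw [e1] at hd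
    fin_cases i <;> fin_cases j <;>
      simp [Matrix.mul_apply, Fin.sum_univ_two, e1, e3]
    · linear_combination hd - (x 0 0) * e2 + (x 0 0) * 0
    · linear_combination hd + (x 1 1) * e2
  · intro N _ hn hz i _ hi
    haveI : N.Normal := normal_of_top_le_normalizer hn
    set π := QuotientGroup.mk' (center (SL2 F))
    have hcen : ∀ x ∈ center (SL2 F), x = 1 ∨ x = -1 := by
      intro x hx
      obtain ⟨r, hr, e⟩ := Matrix.SpecialLinearGroup.mem_center_iff.1 hx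
      apply sl2_mul_self_eq_one h2
      apply Subtype.ext
      rw [Matrix.SpecialLinearGroup.coe_mul, ← e, ← map_mul, ← pow_two]
      rw [Fintype.card_fin] at hr
      rw [hr, map_one]; rfl
    haveI : (N.map π).Normal := Normal.map inferInstance _ (QuotientGroup.mk'_surjective _)
    have hne : N.map π ≠ ⊥ := by
      intro h
      apply hz
      intro x hx
      have : π x = 1 := mem_bot.1 (h ▸ mem_map_of_mem π hx)
      rcases hcen x ((QuotientGroup.eq_one_iff _).1 this) with e | e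
      · rw [e]; exact one_mem _
      · rw [e]; exact mem_zpowers _
    obtain ⟨y, hy, hy2⟩ := psl2_normal_inv h2 (N.map π) hne
    have hi2 : orderOf (π i) = 2 := by
      refine orderOf_eq_prime ?_ (psl2_mk_ne_one h2 hi)
      rw [pow_two, ← map_mul, hi]
      refine (QuotientGroup.eq_one_iff _).2 (mem_center_iff.2 fun g => by simp)
    obtain ⟨c, hc⟩ := isConj_iff.1 (psl2_isConj_of_orderOf_two h2 hy2 hi2)
    obtain ⟨w, hw, e⟩ : π i ∈ N.map π := hc ▸ Normal.conj_mem inferInstance _ hy c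
    rcases hcen _ (QuotientGroup.eq.1 e) with e | e
    · left; rwa [← inv_mul_eq_one.1 e]
    · right
      have : w = -1 * i := by
        rw [inv_mul_eq_iff_eq_mul] at e
        rw [e]; simp
      rwa [← this]

theorem qp_of_equiv (hF : Odd (Nat.card F)) {L : Subgroup G} (e : L ≃* SL2 F) {j : G} (hjL : j ∈ L)
    (hj : orderOf j = 2) : ∃ M, QP L j M := by
  have h2 : (2 : F) ≠ 0 := by
    intro h
    haveI := Fintype.ofFinite F
    have h3 : ringChar F = 2 := CharP.ringChar_of_prime_eq_zero Nat.prime_two (by exact_mod_cast h)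
    have := FiniteField.even_card_of_char_two h3
    rw [Nat.card_eq_fintype_card] at hF
    obtain ⟨k, hk⟩ := hF; omega
  obtain ⟨M, hM⟩ := qp_SL2 h2
  have h := hM.map (f := L.subtype.comp e.symm.toMonoidHom) (L.subtype_injective.comp e.symm.injective)
  have hL : (⊤ : Subgroup (SL2 F)).map (L.subtype.comp e.symm.toMonoidHom) = L := by
    rw [← Subgroup.map_map, map_top_of_surjective _ e.symm.surjective, map_subtype_top]
  rw [hL] at h
  refine ⟨M, ?_⟩
  rcases h.inv j hjL (by rw [← pow_two, ← hj, pow_orderOf_eq_one]) with e1 | e1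
  · rw [e1, orderOf_one] at hj; omega
  · rwa [e1]

theorem QP.of_mem_zp {L : Subgroup G} {j x : G} {M : ℕ} (h : QP L j M) (hx : x ∈ zpowers j) :
    x = 1 ∨ x = j := by
  obtain ⟨k, rfl⟩ := hx
  refine h.inv _ (L.zpow_mem h.mem k) ?_
  show j ^ k * j ^ k = 1
  rw [← (Commute.refl j).mul_zpow, h.z2, one_zpow]

theorem QP.not_le {L : Subgroup G} {j : G} {M : ℕ} (h : QP L j M) : ¬ L ≤ zpowers j := by
  intro hle
  obtain ⟨i, hi, -, -, h1, -⟩ := h.q8
  rcases h.of_mem_zp (hle hi) with e | e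
  · rw [e, one_mul] at h1; exact h.z1 h1.symm
  · rw [e, h.z2] at h1; exact h.z1 h1.symm

theorem QP.conj {L : Subgroup G} {j c : G} {M : ℕ} (h : QP L j M) (hc : c * j * c⁻¹ = j) :
    QP (cj c L) j M := by
  have := h.map (f := (MulAut.conj c).toMonoidHom) (MulAut.conj c).injective
  rwa [show (MulAut.conj c).toMonoidHom j = j from hc] at this

theorem mem_sup_of_comm {L₁ L₂ : Subgroup G} (hc : ∀ x ∈ L₁, ∀ y ∈ L₂, x * y = y * x) {x : G} :
    x ∈ L₁ ⊔ L₂ ↔ ∃ a ∈ L₁, ∃ b ∈ L₂, a * b = x :=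
  mem_sup_of_le_normalizer fun a ha => cent_le_norm _ (mem_centralizer_iff.2 fun b hb => (hc a ha b hb).symm)

theorem sup_le_norm_of_comm {L₁ L₂ : Subgroup G} (hc : ∀ x ∈ L₁, ∀ y ∈ L₂, x * y = y * x) :
    L₁ ⊔ L₂ ≤ 𝐍 L₁ :=
  sup_le le_normalizer fun b hb => cent_le_norm _ (mem_centralizer_iff.2 fun a ha => hc a ha b hb)

/-- A factor of one such central product lies in a factor of any other. -/
theorem QP.le_or_le {L K₁ K₂ : Subgroup G} {j : G} {M M₁ M₂ : ℕ} (h : QP L j M) (h₁ : QP K₁ j M₁)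
    (h₂ : QP K₂ j M₂) (hc : ∀ x ∈ K₁, ∀ y ∈ K₂, x * y = y * x) (hL : L ≤ K₁ ⊔ K₂)
    (hn : K₁ ⊔ K₂ ≤ 𝐍 L) : L ≤ K₁ ∨ L ≤ K₂ := by
  have hc' : ∀ x ∈ K₂, ∀ y ∈ K₁, x * y = y * x := fun x hx y hy => (hc y hy x hx).symm
  have n1 : L ≤ 𝐍 K₁ := hL.trans (sup_le_norm_of_comm hc)
  have n2 : L ≤ 𝐍 K₂ := (hL.trans (sup_comm _ _).le).trans (sup_le_norm_of_comm hc')
  have aux : ∀ {K₁ K₂ : Subgroup G} {M₁ M₂ : ℕ}, QP K₁ j M₁ → QP K₂ j M₂ →
      (∀ x ∈ K₁, ∀ y ∈ K₂, x * y = y * x) → L ≤ K₁ ⊔ K₂ → K₂ ≤ 𝐍 L → L ⊓ K₂ ≤ zpowers j → L ≤ K₁ := by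
    intro K₁ K₂ M₁ M₂ h₁ h₂ hc hL hn hz l hl
    obtain ⟨a, ha, b, hb, rfl⟩ := (mem_sup_of_comm hc).1 (hL hl)
    have : b = 1 ∨ b = j := by
      refine h₂.zc b hb fun g hg => ?_
      have e : g * b * g⁻¹ * b⁻¹ = g * (a * b) * g⁻¹ * (a * b)⁻¹ := by
        have e1 := hc a ha g hg
        have e2 := hc a ha _ (K₂.mul_mem (K₂.mul_mem (K₂.mul_mem hg hb) (K₂.inv_mem hg)) (K₂.inv_mem hb))
        calc _ = a * (g * b * g⁻¹ * b⁻¹) * a⁻¹ := by rw [e2]; group
          _ = (a * g) * b * g⁻¹ * b⁻¹ * a⁻¹ := by group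
          _ = _ := by rw [e1]; group
      have hm : g * b * g⁻¹ * b⁻¹ ∈ L ⊓ K₂ := by
        refine ⟨?_, K₂.mul_mem (K₂.mul_mem (K₂.mul_mem hg hb) (K₂.inv_mem hg)) (K₂.inv_mem hb)⟩
        rw [e]
        exact L.mul_mem ((mem_normalizer_iff.1 (hn hg) _).1 hl) (L.inv_mem hl)
      rcases h.of_mem_zp (hz hm) with e | e
      · left; exact mul_inv_eq_one.1 e
      · right; exact mul_inv_eq_iff_eq_mul.1 e
    rcases this with e | e
    · rw [e, mul_one]; exact ha
    · rw [e]; exact K₁.mul_mem ha h₁.mem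
  by_cases z2 : L ⊓ K₂ ≤ zpowers j
  · exact Or.inl (aux h₁ h₂ hc hL (le_sup_right.trans hn) z2)
  by_cases z1 : L ⊓ K₁ ≤ zpowers j
  · exact Or.inr (aux h₂ h₁ hc' (hL.trans (sup_comm _ _).le) (le_sup_left.trans hn) z1)
  exfalso
  obtain ⟨i, hi, k, hk, hi2, hk2, hik⟩ := h.q8
  have a1 := h.nrm (L ⊓ K₁) inf_le_left (Core.le_normalizer_inf le_normalizer n1) z1 i hi hi2
  have a2 := h.nrm (L ⊓ K₂) inf_le_left (Core.le_normalizer_inf le_normalizer n2) z2 k hk hk2
  have b1 : i ∈ K₁ := a1.elim (fun h => h.2) fun h => (K₁.mul_mem_cancel_left h₁.mem).1 h.2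
  have b2 : k ∈ K₂ := a2.elim (fun h => h.2) fun h => (K₂.mul_mem_cancel_left h₂.mem).1 h.2
  rw [hc i b1 k b2] at hik
  exact h.z1 (by simpa using hik)

end Cfsg.Lib.FG
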