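import Cfsg.Agent.Lib.Transfer.SylowIn
import Cfsg.Agent.Lib.Hall.Product
import Cfsg.Agent.Lib.Core.Nilpotent

/-!
# TI Sylow subgroups and Sylow subgroups which are direct factors
-/

set_option autoImplicit false

namespace Cfsg.Lib.FG

open Subgroup Transfer
open scoped Pointwise

variable {G : Type*} [Group G] [Finite G] {p : ℕ} [hp : Fact p.Prime]

theorem ti_iff (P : Sylow p G) : (∀ g : G, g ∉ normalizer ((P : Subgroup G) : Set G) → (P : Subgroup G) ⊓ MulAut.conj g • (P : Subgroup G) = ⊥) ↔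
    ∀ R R' : Sylow p G, R ≠ R' → (R : Subgroup G) ⊓ R' = ⊥ := by
  refine ⟨fun h R R' hne => ?_, fun h g hg => h P (g • P) fun e => hg (Sylow.smul_eq_iff_mem_normalizer.1 e.symm)⟩
  obtain ⟨a, rfl⟩ := MulAction.exists_smul_eq G P R
  obtain ⟨b, rfl⟩ := MulAction.exists_smul_eq G P R'
  have := h (a⁻¹ * b) fun e => hne (by rw [← mul_inv_cancel_left a b, mul_smul, Sylow.smul_eq_iff_mem_normalizer.2 e])
  rw [coe_sylow_smul, coe_sylow_smul, ← mul_inv_cancel_left a b, cj_mul, ← cj_inf, cj_eq_smul _ (P : Subgroup G), this, cj_bot]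

theorem mem_sylow_of_normal {P : Sylow p G} (h : (P : Subgroup G).Normal) {x : G} (hx : ∃ a, orderOf x = p ^ a) : x ∈ (P : Subgroup G) :=
  let ⟨_, ha⟩ := hx
  (sylowIn_top P).le_of_normalizes (.of_card ((Nat.card_zpowers x).trans ha)) le_top (normalizer_eq_top (P : Subgroup G) ▸ le_top) (mem_zpowers x)

theorem mem_of_direct {P : Sylow p G} {K : Subgroup G} (h1 : (P : Subgroup G).Normal) (h2 : K.Normal) (_h3 : (P : Subgroup G) ⊓ K = ⊥)
    (h4 : (P : Subgroup G) ⊔ K = ⊤) {x y : G} (hx : ∃ a, orderOf x = p ^ a) (hy : ∃ q b : ℕ, q.Prime ∧ q ≠ p ∧ orderOf y = q ^ b) :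
    x ∈ (P : Subgroup G) ∧ y ∈ K := by
  obtain ⟨q, b, hq, hne, hy⟩ := hy
  obtain ⟨n, hn⟩ := P.2.exists_card_eq
  refine ⟨mem_sylow_of_normal h1 hx, (QuotientGroup.eq_one_iff y).1 (orderOf_eq_one_iff.1 (Nat.eq_one_of_dvd_coprimes
    (Nat.coprime_pow_primes b n hq hp.out hne) (hy ▸ orderOf_map_dvd (QuotientGroup.mk' K) y) ((_root_.orderOf_dvd_natCard _).trans ?_)))⟩
  rw [← index_eq_card, ← relIndex_top_right, ← h4, relIndex_sup_right, ← hn]
  exact relIndex_dvd_card _ _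

theorem direct_iff : (∃ (P : Sylow p G) (K : Subgroup G), (P : Subgroup G).Normal ∧ K.Normal ∧ (P : Subgroup G) ⊓ K = ⊥ ∧ (P : Subgroup G) ⊔ K = ⊤) ↔
    ∀ x y : G, (∃ a : ℕ, orderOf x = p ^ a) → (∃ q b : ℕ, q.Prime ∧ q ≠ p ∧ orderOf y = q ^ b) → x * y = y * x := by
  refine ⟨fun ⟨P, K, h1, h2, h3, h4⟩ x y hx hy => ?_, fun h => ?_⟩
  · obtain ⟨hxP, hyK⟩ := mem_of_direct h1 h2 h3 h4 hx hy
    exact commute_of_normal_of_disjoint _ _ h1 h2 (disjoint_iff.2 h3) x y hxP hyK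
  obtain ⟨P⟩ : Nonempty (Sylow p G) := inferInstance
  have key : ∀ q : ℕ, q.Prime → q ≠ p → ∀ y : G, (∃ k, y ^ q ^ k = 1) → y ∈ centralizer ((P : Subgroup G) : Set G) := fun q hq hne y ⟨k, hk⟩ x hx => by
    obtain ⟨i, -, hi⟩ := (Nat.dvd_prime_pow hq).1 (orderOf_dvd_of_pow_eq_one hk)
    obtain ⟨a, ha⟩ := IsPGroup.iff_orderOf.1 P.2 ⟨x, hx⟩
    exact h x y ⟨a, (orderOf_coe ⟨x, hx⟩).trans ha⟩ ⟨q, i, hq, hne, hi⟩
  have h1 : (P : Subgroup G).Normal := normalizer_eq_top_iff.1 (Core.eq_top_of_forall_sylow_le fun q hq _ => by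
    by_cases e : q = p
    · subst e; exact ⟨P, le_normalizer⟩
    exact ⟨default, fun y hy => centralizer_le_normalizer _ (key q hq.out e y ((Sylow.isPGroup' _ ⟨y, hy⟩).imp fun _ => congrArg Subtype.val))⟩)
  obtain ⟨K, hK⟩ := exists_right_complement'_of_coprime P.card_coprime_index
  have h2 : K ≤ centralizer ((P : Subgroup G) : Set G) := le_of_forall_prime_pow fun q hq y hy hk => by
    by_cases e : q = p
    · subst e
      obtain ⟨k, hk⟩ := hk
      obtain ⟨i, -, hi⟩ := (Nat.dvd_prime_pow hq).1 (orderOf_dvd_of_pow_eq_one hk)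
      exact (show y = 1 from hK.disjoint.le_bot ⟨mem_sylow_of_normal h1 ⟨i, hi⟩, hy⟩) ▸ one_mem _
    exact key q hq e y hk
  exact ⟨P, K, h1, normalizer_eq_top_iff.1 (top_unique (hK.sup_eq_top ▸ sup_le ((le_centralizer_iff.1 h2).trans (centralizer_le_normalizer _)) le_normalizer)),
    hK.disjoint.eq_bot, hK.sup_eq_top⟩

end Cfsg.Lib.FG
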