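import Cfsg.Agent.Lib.FG.Quad
import Cfsg.Agent.Lib.BG1.Sec1
import Cfsg.Agent.Lib.Amalg.CharP
import Cfsg.Agent.Lib.Hall.KPi
import Cfsg.Agent.Lib.Coprime.Generation
import Cfsg.Agent.Lib.Hall.SZConj
import Cfsg.Agent.Lib.KS9.S4
import Cfsg.Agent.Lib.Core.UpperP

/-! Groups whose elements of order `p` are permuted transitively have `p`-length one (Gaschütz–Yen, Thompson). -/

set_option autoImplicit false

namespace Cfsg.Lib.FG

open Subgroup Cfsg.Lib.Amalg Cfsg.Lib.BG1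
open scoped commutatorElement

variable {G : Type*} [Group G] [Finite G] {p q : ℕ} {D L M Q S V W X Y A : Subgroup G} {x : G}

theorem exists_cent_of_frattini (hp : p.Prime) [V.Normal] [M.Normal] (hV : IsPGroup p V) (h : ∀ x, orderOf x = p → x ∈ V) (hY : ¬ p ∣ Nat.card Y)
    (hM : M ⊔ 𝐍 Y = ⊤) (hd : p ∣ M.index) : ∃ v ∈ 𝐂 Y, orderOf v = p := by
  rw [← relIndex_top_right, ← hM, relIndex_sup_left] at hd
  obtain ⟨v, v1, v2⟩ := exists_mem_orderOf_eq_prime hp (hd.trans (relIndex_dvd_card _ _))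
  have : zpowers v ≤ 𝐂 Y := comm_eq_bot_iff.1 (eq_bot_iff.2 ((le_inf ((commutator_mono (zpowers_le.2 (h v v2)) le_rfl).trans (commutator_le_left _ _))
    (comm_le_right (zpowers_le.2 v1))).trans (inf_eq_bot_of_isPGroup_of_not_dvd hp hV hY).le))
  exact ⟨v, this (mem_zpowers v), v2⟩

theorem exists_lift_prime [hp : Fact p.Prime] (N : Subgroup G) [N.Normal] (hN : (Nat.card N).Coprime p) {y : G ⧸ N} (hy : orderOf y = p) :
    ∃ x : G, orderOf x = p ∧ (x : G ⧸ N) = y := by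
  obtain ⟨x, rfl⟩ := QuotientGroup.mk'_surjective N y
  obtain ⟨m, k, e1, e2⟩ := KS9.exists_pElt_pow (p := p) (QuotientGroup.mk' N) (x := x) (n := 1) (by rw [pow_one, ← hy, pow_orderOf_eq_one])
  refine ⟨x ^ m, orderOf_eq_prime ?_ fun e => hp.out.ne_one (by rw [← hy, ← e1, e, map_one, orderOf_one]), e1⟩
  have : (x ^ m) ^ p ∈ N := (QuotientGroup.eq_one_iff _).1 (by rw [← QuotientGroup.mk'_apply, map_pow, e1, ← hy, pow_orderOf_eq_one])
  exact orderOf_eq_one_iff.1 (Nat.eq_one_of_dvd_coprimes (hN.pow_right k) (N.orderOf_dvd_natCard this)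
    (orderOf_dvd_of_pow_eq_one (by rw [← pow_mul, mul_comm, pow_mul, e2, one_pow])))

/-- The elements of order `p` centralize `O_{p,p'}(G)`. -/
theorem cent_ppp [hp : Fact p.Prime] (hG : IsPSolvable p G) (hO : pPrimeCore p G = ⊥) (hd : p ∣ (pCore p G).index)
    (hT : ∀ K : Subgroup G, K.Characteristic → ∀ x y, orderOf x = p → orderOf y = p → x ∈ K → y ∈ K) (hx : orderOf x = p) :
    x ∈ pCore p G ∧ x ∈ 𝐂 ((pPrimeCore p (G ⧸ pCore p G)).comap (QuotientGroup.mk' _)) := by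
  set Q := pCore p G
  set L := (pPrimeCore p (G ⧸ Q)).comap (QuotientGroup.mk' Q)
  haveI : Q.Characteristic := Core.pCore_characteristic p G
  haveI : L.Characteristic := Characteristic.comap_quotient_mk (Core.pPrimeCore_characteristic p _)
  have hQ : IsPGroup p Q := Core.isPGroup_pCore p G
  have hC : 𝐂 Q ≤ Q := Core.centralizer_pCore_le_of_isPSolvable hp.out hG hO
  have h1 : Q ≠ ⊥ := fun e => by
    rw [e, Amalg.centralizer_bot, top_le_iff] at hC
    rw [e, hC, index_top] at hd; exact hp.out.not_dvd_one hd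
  obtain ⟨z, z1, z2⟩ := exists_mem_orderOf_eq_prime hp.out (dvd_card_of_isPGroup_ne_bot (hQ.to_inf_left (K := 𝐂 Q)) (inf_center_ne_bot hQ le_rfl le_normalizer h1))
  have c1 : ∀ x, orderOf x = p → x ∈ 𝐂 Q := fun x hx => hT _ inferInstance z x z2 hx z1.2
  have hQL : Q ≤ L := fun x hx => by simp [L, (QuotientGroup.eq_one_iff x).2 hx]
  have i1 : ¬ p ∣ Q.relIndex L := by
    rw [← QuotientGroup.ker_mk' Q, relIndex_ker, map_comap_eq_self_of_surjective (QuotientGroup.mk'_surjective Q)]; exact Core.not_dvd_card_pPrimeCore hp.out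
  obtain ⟨N, -, -, n1, n2⟩ := Hall.sz_exists_internal hQL le_normalizer_of_normal' (coprime_of_isPGroup_of_not_dvd hp.out hQ i1)
  rw [← n2] at i1
  obtain ⟨v, v1, v2⟩ := exists_cent_of_frattini hp.out (M := L) hQ (fun x hx => hC (c1 x hx)) i1 (top_unique fun g _ => by
    obtain ⟨k, k1, k2⟩ := Coprime.exists_conj_eq_of_card_eq (A := N) (K := Q) (B := cj g N) le_normalizer_of_normal' (coprime_of_isPGroup_of_not_dvd hp.out hQ i1).symm
      (.inr (solvable_of_pgroup hp.out hQ)) (n1 ▸ cj_le_of_le_of_mem_normalizer (n1 ▸ le_sup_right) (le_normalizer_of_normal' (mem_top g))) (card_cj g N)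
    rw [← mul_inv_cancel_left k g]
    exact mul_mem (mem_sup_left (hQL k1)) (mem_sup_right (cj_eq_self_iff.1 (by rw [cj_mul, ← k2]; exact cj_inv_cj k N))))
    ((hp.out.dvd_mul.1 (relIndex_mul_index hQL ▸ hd)).resolve_left (n2 ▸ i1))
  exact ⟨hC (c1 x hx), hT _ inferInstance v x v2 hx (by rw [← n1, Core.centralizer_sup]; exact ⟨c1 v v2, v1⟩)⟩

/-- Subgroups of `D` with a nontrivial fixed point on `S` have index at least `q - 1`. -/
def Big (q : ℕ) (S D : Subgroup G) : Prop := ∀ E ≤ D, S ⊓ 𝐂 E ≠ ⊥ → q ≤ E.relIndex D + 1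

section
variable (hS : IsPGroup 2 S) (hD : ¬ 2 ∣ Nat.card D) (hB : Big q S D)
include hS hD hB

theorem Big.coset {E : Subgroup G} (hY : Y ≤ S) (hn : D ≤ 𝐍 Y) (hx : x ∈ S) (hxY : x ∉ Y) (hE : E ≤ D) (h : ∀ e ∈ E, e * x * e⁻¹ * x⁻¹ ∈ Y) :
    q ≤ E.relIndex D + 1 := by
  obtain ⟨c, c1, n, n1, rfl⟩ := Coprime.exists_fixed_in_coset (hE.trans hn) (coprime_of_isPGroup_of_not_dvd Nat.prime_two (hS.to_le hY)
    (not_dvd_card_of_le hE hD)).symm (.inr (solvable_of_pgroup Nat.prime_two (hS.to_le hY))) hY hx h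
  exact hB E hE fun e => hxY (by rw [mem_bot.1 (e.le c1), mul_one]; exact n1)

theorem Big.orb (hY : Y ≤ S) (hn : D ≤ 𝐍 Y) (hX : X ≤ S) (hXY : X ≤ 𝐍 Y) (hDX : D ≤ 𝐍 X) (hx : x ∈ X) (hxY : x ∉ Y) :
    q ≤ Y.relIndex X ∧ (Y.relIndex X ≤ q → ∀ w ∈ X, w ∉ Y → ∃ d ∈ D, w⁻¹ * (d * x * d⁻¹) ∈ Y) := by
  set y := qmk Y ⟨x, hXY hx⟩
  have h1 := hB.coset hS hD hY hn (hX hx) hxY (E := D ⊓ quoPre Y (centralizer {y})) inf_le_left fun e he => by
    have := mem_centralizer_singleton_iff.1 ((mem_mpre_iff (hn he.1)).1 he.2)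
    refine (qmk_eq_one_iff (mul_mem (mul_mem (mul_mem (hn he.1) (hXY hx)) (inv_mem (hn he.1))) (inv_mem (hXY hx)))).1 ?_
    show qmk Y (⟨e, hn he.1⟩ * ⟨x, hXY hx⟩ * ⟨e, hn he.1⟩⁻¹ * ⟨x, hXY hx⟩⁻¹) = 1
    rw [map_mul, map_mul, map_mul, this]; simp [y]
  rw [inf_relIndex_left, relIndex_mpre _ _ hn, ← Hall.ncard_conj_orbit] at h1
  have h2 : {z | ∃ l ∈ quo Y D, l * y * l⁻¹ = z} ⊆ (quo Y X : Set (QG Y)) \ {1} := by
    rintro _ ⟨l, hl, rfl⟩
    exact ⟨Coprime.conj_mem (mim_norm _ hDX) hl (mem_mim_of_mem _ hx), fun e => hxY ((qmk_eq_one_iff _).1 (conj_eq_one_iff.1 e))⟩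
  have h3 : ((quo Y X : Set (QG Y)) \ {1}).ncard + 1 = Y.relIndex X := by
    rw [Set.ncard_diff_singleton_add_one (one_mem _), ← card_quo hXY]; rfl
  have h4 := Set.ncard_le_ncard h2
  refine ⟨by omega, fun h w hw hwY => ?_⟩
  obtain ⟨l, hl, e⟩ := (Set.eq_of_subset_of_ncard_le h2 (by omega)).ge ⟨mem_mim_of_mem (hXY hw) hw, mt (qmk_eq_one_iff (hXY hw)).1 hwY⟩
  obtain ⟨d, d1, d2, rfl⟩ := mem_mim.1 hl
  refine ⟨d, d2, (qmk_eq_one_iff (mul_mem (inv_mem (hXY hw)) (mul_mem (mul_mem d1 (hXY hx)) (inv_mem d1)))).1 ?_⟩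
  show qmk Y (⟨w, hXY hw⟩⁻¹ * (⟨d, d1⟩ * ⟨x, hXY hx⟩ * ⟨d, d1⟩⁻¹)) = 1
  rw [map_mul, map_mul, map_mul, map_inv, map_inv, ← e, inv_mul_cancel]

theorem Big.le (hY : Y < X) (hn : D ≤ 𝐍 Y) (hX : X ≤ S) (hXY : X ≤ 𝐍 Y) (hDX : D ≤ 𝐍 X) : q ≤ Y.relIndex X :=
  let ⟨_, h1, h2⟩ := SetLike.exists_of_lt hY
  (hB.orb hS hD (hY.le.trans hX) hn hX hXY hDX h1 h2).1

omit hD hB in
/-- some hyperplane of `S/C_S(W)` has more fixed points on `W` than `S` -/
theorem exists_hyper [W.Normal] [L.Normal] (hW : IsElementaryAbelian 2 W) (hWS : W ≤ S) (h1 : ⁅S, S⁆ ≤ 𝐂 W) (h2 : ∀ s ∈ S, s ^ 2 ∈ 𝐂 W)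
    (hL : ¬ 2 ∣ (𝐂 W).relIndex L) (hc : ¬ ⁅L, S⁆ ≤ 𝐂 W) : ∃ B ≤ S, B.relIndex S = 2 ∧ ¬ W ⊓ 𝐂 B ≤ 𝐂 S := by
  set f := QuotientGroup.mk' (𝐂 W)
  have hk : f.ker = 𝐂 W := QuotientGroup.ker_mk' _
  have cm : ∀ X : Subgroup G, X ⊔ 𝐂 W = (X.map f).comap f := fun X => by rw [comap_map_eq, hk]
  rw [← hk, relIndex_ker] at hL
  rw [← hk, ← Subgroup.map_eq_bot_iff, map_commutator, comm_eq_bot_iff] at h1 hc
  haveI := isMulCommutative_iff_le_cent.2 h1
  haveI : (L.map f).Normal := .map ‹_› _ (QuotientGroup.mk'_surjective _)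
  obtain ⟨B, hBA, hB, hnc⟩ : ∃ B ≤ S.map f, B.relIndex (S.map f) = 2 ∧ ¬ L.map f ⊓ 𝐂 B ≤ 𝐂 (S.map f) := by
    by_contra! h
    exact hc (Coprime.le_of_forall_hyperplane (by rintro _ ⟨s, hs, rfl⟩; rw [← map_pow]; exact (hk.ge (h2 s hs) :))
      (fun e => hc (by rw [e]; exact le_cent_bot _)) le_normalizer_of_normal' (coprime_of_isPGroup_of_not_dvd Nat.prime_two (hS.map f) hL) h)
  refine ⟨S ⊓ B.comap f, inf_le_left, by rw [inf_relIndex_left, relIndex_comap, hB], fun h => ?_⟩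
  have e : B.comap f = S ⊓ B.comap f ⊔ 𝐂 W := by
    rw [cm]; congr 1
    exact le_antisymm (fun y hy => by obtain ⟨d, d1, rfl⟩ := hBA hy; exact ⟨d, ⟨d1, hy⟩, rfl⟩) (map_le_iff_le_comap.2 inf_le_right)
  have e' : W ⊓ 𝐂 (S ⊓ B.comap f) = W ⊓ 𝐂 (B.comap f) := by
    conv_rhs => rw [e, Core.centralizer_sup, inf_comm (𝐂 _), ← inf_assoc, inf_eq_left.2 (le_centralizer_centralizer W)]
  obtain ⟨_, ⟨⟨k, k1, rfl⟩, k2 : f k ∈ 𝐂 B⟩, hk'⟩ := SetLike.not_le_iff_exists.1 hnc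
  obtain ⟨s, hs, hsk⟩ : ∃ s ∈ S, f ⁅k, s⁆ ≠ 1 := by
    by_contra! h
    exact hk' (by rintro _ ⟨s, hs, rfl⟩; exact (commutatorElement_eq_one_iff_mul_comm.1 (map_commutatorElement f k s ▸ h s hs)).symm)
  have sB : f s ∈ 𝐂 B := centralizer_le hBA (h1 (mem_map_of_mem f hs))
  have z1 : ⁅k, s⁆ ∈ L := commutator_le_left _ _ (commutator_mem_commutator k1 hs)
  have z2 : f ⁅k, s⁆ ∈ 𝐂 B := by rw [map_commutatorElement]; exact comm_le_of_le le_rfl le_rfl (commutator_mem_commutator k2 sB)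
  have z3 : ⁅k, s⁆ ∈ 𝐂 (W ⊓ 𝐂 (B.comap f)) := by
    have : k ∈ 𝐍 (W ⊓ 𝐂 (B.comap f)) := Core.le_normalizer_inf le_normalizer_of_normal' (Coprime.normalizer_le_normalizer_centralizer_set _)
      (le_normalizer_comap f (cent_le_norm B k2))
    exact comm_le_right (Coprime.normalizer_le_normalizer_centralizer_set _) (commutator_mem_commutator this (Amalg.le_cent_symm (e' ▸ h) hs))
  obtain ⟨j, hj⟩ := exists_pow_coprime (p := 2) (isOfFinOrder_of_finite ⁅k, s⁆)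
  set z := ⁅k, s⁆ ^ 2 ^ j
  have z4 : z ∉ 𝐂 W := fun e => hsk (orderOf_eq_one_iff.1 (Nat.eq_one_of_dvd_coprimes (((Nat.Prime.coprime_iff_not_dvd Nat.prime_two).2 hL).pow_left j)
    (orderOf_dvd_of_pow_eq_one (by rw [← map_pow]; exact (hk.ge e :))) ((L.map f).orderOf_dvd_natCard (mem_map_of_mem f z1))))
  have hWZ : zpowers z ≤ 𝐍 W := le_normalizer_of_normal'
  have r1 : ⁅W, zpowers z ⊔ 𝐂 W⁆ = ⁅W, zpowers z⁆ := le_antisymm (comm_sup_le' le_rfl ((comm_eq_bot_iff'.2 le_rfl).le.trans bot_le)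
    (right_le_normalizer_comm _ _) (le_norm_of_le_cent (centralizer_le (comm_le_left hWZ)))) (commutator_mono le_rfl le_sup_left)
  have r2 : S ⊓ B.comap f ≤ 𝐍 ⁅W, zpowers z⁆ := by
    rw [← r1, cm, MonoidHom.map_zpowers]
    refine Core.le_normalizer_commutator le_normalizer_of_normal' (inf_le_right.trans ((comap_mono ?_).trans (le_normalizer_comap f)))
    exact le_norm_of_le_cent (Amalg.le_cent_symm (zpowers_le.2 (by rw [map_pow]; exact pow_mem z2 _)))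
  have r3 := inf_center_ne_bot (hS.to_le (sup_le ((comm_le_left hWZ).trans hWS) (inf_le_left : S ⊓ B.comap f ≤ S))) le_sup_left (sup_le le_normalizer r2)
    fun e => z4 (comm_eq_bot_iff'.1 e (mem_zpowers z))
  refine r3 (eq_bot_iff.2 (le_trans (le_inf inf_le_left ?_) (coprime_abelian_cent_TI hWZ
    (coprime_card_of_pPrime (coprime_card_zpowers hj) (elemAb_isPGroup hW)) hW.1).le))
  refine le_trans (inf_le_inf (comm_le_left hWZ) (centralizer_le (SetLike.coe_subset_coe.2 le_sup_right))) (e'.le.trans (Amalg.le_cent_symm (zpowers_le.2 (pow_mem z3 _))))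

theorem Big.core [W.Normal] [L.Normal] [Q.Normal] (hq : 2 < q) (hW : IsElementaryAbelian 2 W) (hWS : W ≤ S) (hDS : D ≤ 𝐍 S) (hc : Nat.card W ≤ q ^ 2)
    (hQ : Q ≤ S) (hL : ¬ 2 ∣ Q.relIndex L) (hA : A ≤ ⁅L, S⁆) (hA2 : ¬ 2 ∣ Nat.card A) : A ≤ 𝐂 W := by
  by_contra hn
  set U := W ⊓ 𝐂 S
  have hWW := elemAb_le_cent hW
  have hDW : D ≤ 𝐍 W := le_normalizer_of_normal'
  have nc : ∀ {T : Subgroup G}, D ≤ 𝐍 T → D ≤ 𝐍 (𝐂 T) := fun h => h.trans (Coprime.normalizer_le_normalizer_centralizer_set _)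
  have hDU : D ≤ 𝐍 U := Core.le_normalizer_inf hDW (nc hDS)
  have nW : ∀ {X Y : Subgroup G}, X ≤ W → Y ≤ W → X ≤ 𝐍 Y := fun h h' => le_norm_of_le_cent (h.trans (hWW.trans (centralizer_le h')))
  have s1 : ¬ S ≤ 𝐂 W := fun h => hn (hA.trans ((commutator_mono le_rfl h).trans (commutator_le_right _ _)))
  have u1 : U < W := inf_le_left.lt_of_ne fun e => s1 (Amalg.le_cent_symm (e.ge.trans inf_le_right))
  have u2 := hB.le hS hD (bot_lt_iff_ne_bot.2 (inf_center_ne_bot hS hWS le_normalizer_of_normal' u1.ne_bot)) (le_norm_bot _) (inf_le_left.trans hWS) (le_norm_bot _) hDU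
  have u3 : U.relIndex W ≤ q := by
    rw [relIndex_bot_left] at u2
    rw [← Core.card_mul_relIndex u1.le, sq] at hc
    exact Nat.le_of_mul_le_mul_left ((Nat.mul_le_mul_right _ u2).trans hc) (by omega)
  have irr : ∀ X, U ≤ X → X < W → D ≤ 𝐍 X → X ≤ U := fun X h1 h2 h3 => by
    by_contra h
    have := Nat.mul_le_mul (hB.le hS hD (h1.lt_of_not_ge h) hDU (h2.le.trans hWS) (nW h2.le u1.le) h3) (hB.le hS hD h2 h3 hWS (nW le_rfl h2.le) hDW)
    rw [relIndex_mul_relIndex _ _ _ h1 h2.le] at this; nlinarith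
  have u4 : ⁅W, S⁆ ≤ U := le_sup_right.trans (irr _ le_sup_left ((sup_le u1.le (commutator_le_left _ _)).lt_of_ne fun e => u1.not_ge
    (le_of_le_sup_comm hS (u1.le.trans hWS) hWS (le_norm_of_le_cent (Amalg.le_cent_symm inf_le_right)) e.ge))
    (Core.le_normalizer_sup hDU (Core.le_normalizer_commutator hDW hDS)))
  have hQW : Q ≤ 𝐂 W := by
    by_contra h
    have e : U = W ⊓ 𝐂 Q := (inf_le_inf_left _ (centralizer_le hQ)).antisymm (irr _ (inf_le_inf_left _ (centralizer_le hQ))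
      (inf_le_left.lt_of_ne fun e => h (Amalg.le_cent_symm (e.ge.trans inf_le_right))) le_normalizer_of_normal')
    haveI : U.Normal := e ▸ inferInstance
    have : A ≤ 𝐂 U ⊓ centQuo U W := hA.trans ((commutator_mono le_rfl (le_inf (Amalg.le_cent_symm inf_le_right) (le_centQuo le_normalizer_of_normal'
      le_normalizer_of_normal' u4))).trans (comm_le_right (Core.le_normalizer_inf le_normalizer_of_normal' (le_norm_centQuo le_normalizer_of_normal' le_normalizer_of_normal'))))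
    have c := (coprime_of_isPGroup_of_not_dvd Nat.prime_two (elemAb_isPGroup hW) hA2).symm
    exact hn (stable_factor_cent le_normalizer_of_normal' c (.inr (solvable_of_pgroup Nat.prime_two (elemAb_isPGroup hW))) u1.le
      (commutator_le_of_le_centQuo le_normalizer_of_normal' (this.trans inf_le_right)) (this.trans inf_le_left))
  have bU : ∀ {s w}, s ∈ S → w ∈ W → ⁅s, w⁆ ∈ U := fun hs hw => u4 (commutator_comm_le _ _ (commutator_mem_commutator hs hw))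
  have b1 : ∀ {s t w}, s ∈ S → t ∈ S → w ∈ W → ⁅s * t, w⁆ = ⁅s, w⁆ * ⁅t, w⁆ := fun {s t w} hs ht hw => by
    rw [show ⁅s * t, w⁆ = s * ⁅t, w⁆ * s⁻¹ * ⁅s, w⁆ by group, (bU ht hw).2 s hs, mul_inv_cancel_right, hWW (bU hs hw).1 _ (bU ht hw).1]
  have b2 : ∀ {s v w}, s ∈ S → v ∈ W → w ∈ W → ⁅s, v * w⁆ = ⁅s, v⁆ * ⁅s, w⁆ := fun {s v w} hs hv hw => by
    rw [show ⁅s, v * w⁆ = ⁅s, v⁆ * (v * ⁅s, w⁆ * v⁻¹) by group, hWW (bU hs hw).1 v hv, mul_inv_cancel_right]
  have b3 : ∀ {s w}, s ∈ S → w ∈ W → ⁅s, w⁆ * ⁅s, w⁆ = 1 := fun hs hw => by rw [← sq, hW.2 _ (bU hs hw).1]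
  have b4 : ∀ {s}, s ∈ S → (∀ w ∈ W, ⁅s, w⁆ = 1) → s ∈ 𝐂 W := fun _ h w hw => (commutatorElement_eq_one_iff_mul_comm.1 (h w hw)).symm
  have b5 : ∀ {s t w}, s ∈ S → t ∈ S → w ∈ W → ⁅s, w⁆ = ⁅t, w⁆ → ⁅s * t⁻¹, w⁆ = 1 := fun {s t w} hs ht hw e => by
    have := b1 (mul_mem hs (inv_mem ht)) ht hw
    rwa [inv_mul_cancel_right, e, eq_comm, mul_eq_right] at this
  obtain ⟨B, hBS, hB2, h⟩ := exists_hyper hS hW hWS (commutator_le.2 fun s hs t ht => by
      rw [show ⁅s, t⁆ = s * t * (t * s)⁻¹ by group]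
      exact b4 (mul_mem (mul_mem hs ht) (inv_mem (mul_mem ht hs))) fun w hw => b5 (mul_mem hs ht) (mul_mem ht hs) hw
        (by rw [b1 hs ht hw, b1 ht hs hw, hWW (bU hs hw).1 _ (bU ht hw).1]))
    (fun s hs => b4 (pow_mem hs 2) fun w hw => by rw [sq, b1 hs hs hw, b3 hs hw]) (fun h => hL (h.trans (relIndex_dvd_of_le_left L hQW)))
    fun h => hn (hA.trans h)
  obtain ⟨w₀, ⟨w1, w2 : w₀ ∈ 𝐂 B⟩, w3⟩ := SetLike.not_le_iff_exists.1 h
  have H : ∀ w ∈ W, ∀ s ∈ S, ∀ t ∈ S, ⁅s, w⁆ ≠ 1 → ⁅t, w⁆ ≠ 1 → ⁅s, w⁆ = ⁅t, w⁆ := fun w hw s hs t ht e1 e2 => by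
    obtain ⟨d, hd, e⟩ := (hB.orb hS hD (u1.le.trans hWS) hDU hWS (nW le_rfl u1.le) hDW w1 fun h => w3 h.2).2 u3 w hw
      fun h => e1 (commutatorElement_eq_one_iff_mul_comm.2 (h.2 s hs))
    have k : ∀ s ∈ S, ⁅s, w⁆ = d * ⁅d⁻¹ * s * d, w₀⁆ * d⁻¹ := fun s hs => by
      have := b2 hs hw e.1
      rw [commutatorElement_eq_one_iff_mul_comm.2 (e.2 s hs), mul_one, mul_inv_cancel_left] at this
      rw [← this]; group
    have k2 : ∀ s ∈ S, ⁅s, w⁆ ≠ 1 → d⁻¹ * s * d ∉ B := fun s hs e h => e (by rw [k s hs, commutatorElement_eq_one_iff_mul_comm.2 (w2 _ h)]; simp)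
    have s' := Coprime.conj_mem' hDS hd hs
    have t' := Coprime.conj_mem' hDS hd ht
    have := ((mul_mem_iff_of_index_two hB2 (a := ⟨_, s'⟩) (b := ⟨_, t'⟩)).2 (iff_of_false (k2 s hs e1) (k2 t ht e2)) : _ * _ ∈ B)
    have := (b1 s' t' w1).symm.trans (commutatorElement_eq_one_iff_mul_comm.2 (w2 _ this))
    rw [k s hs, k t ht, mul_right_cancel (this.trans (b3 t' w1).symm)]
  obtain ⟨s, hs, w, hw, e⟩ : ∃ s ∈ S, ∃ w ∈ W, ⁅s, w⁆ ≠ 1 := by
    by_contra! h; exact s1 fun s hs => b4 hs (h s hs)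
  have ker : ∀ w ∈ W, ∀ s ∈ S, ∀ v ∈ W, ∀ t ∈ S, ⁅s, w⁆ ≠ 1 → ⁅s, w⁆ ≠ ⁅t, v⁆ → ⁅t, w⁆ = 1 → ⁅t, v⁆ = 1 := fun w hw s hs v hv t ht e1 e2 e3 => by
    by_contra e4
    have := H _ (mul_mem hw hv) s hs t ht
    rw [b2 hs hw hv, b2 ht hw hv, e3, one_mul] at this
    by_cases e5 : ⁅s, v⁆ = 1
    · rw [e5, mul_one] at this; exact e2 (this e1 e4)
    rw [H v hv s hs t ht e5 e4] at this
    exact e1 (mul_eq_right.1 (this (fun e => e2 (mul_right_cancel (e.trans (b3 ht hv).symm))) e4))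
  by_cases h : ∀ t ∈ S, ∀ v ∈ W, ⁅t, v⁆ ≠ 1 → ⁅t, v⁆ = ⁅s, w⁆
  · have := hB.coset hS hD bot_le (le_norm_bot _) (hWS (bU hs hw).1) e le_rfl fun d hd => by
      rw [mem_bot, mul_inv_eq_one, conjugate_commutatorElement]
      exact h _ (Coprime.conj_mem hDS hd hs) _ (Coprime.conj_mem hDW hd hw) (by rw [← conjugate_commutatorElement]; simpa using e)
    rw [relIndex_self] at this; omega
  push Not at h
  obtain ⟨t, ht, v, hv, e1, e2⟩ := h
  have k : ∀ r ∈ S, ⁅r, w⁆ = 1 → r ∈ 𝐂 W := fun r hr e3 => b4 hr fun y hy => by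
    by_cases e4 : ⁅s, w⁆ = ⁅r, y⁆
    · have : ⁅r, v⁆ = 1 := by
        by_contra e5
        exact e5 (ker w hw s hs v hv r hr e (by rw [H v hv r hr t ht e5 e1]; exact e2.symm) e3)
      exact ker v hv t ht y hy r hr e1 (e4 ▸ e2) this
    exact ker w hw s hs y hy r hr e e4 e3
  have := hB.coset hS hD inf_le_left (Core.le_normalizer_inf hDS (nc hDW)) hs (fun h => e (commutatorElement_eq_one_iff_mul_comm.2 (h.2 w hw).symm)) le_rfl
    fun d hd => by
      have s' := Coprime.conj_mem hDS hd hs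
      refine ⟨S.mul_mem s' (inv_mem hs), k _ (mul_mem s' (inv_mem hs)) (b5 s' hs hw (H w hw _ s' s hs (fun e3 => e ?_) e))⟩
      exact commutatorElement_eq_one_iff_mul_comm.2 (((mem_normalizer_iff.1 (nc hDW hd) s).2 (k _ s' e3)) w hw).symm
  rw [relIndex_self] at this; omega

theorem Big.map (N : Subgroup G) [N.Normal] (hDS : D ≤ 𝐍 S) : Big q (S.map (QuotientGroup.mk' N)) (D.map (QuotientGroup.mk' N)) := fun E hE h => by
  have e : (D ⊓ E.comap (QuotientGroup.mk' N)).map (QuotientGroup.mk' N) = E :=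
    le_antisymm (map_le_iff_le_comap.2 inf_le_right) fun y hy => by obtain ⟨d, d1, rfl⟩ := hE hy; exact ⟨d, ⟨d1, hy⟩, rfl⟩
  rw [← relIndex_comap, ← inf_relIndex_left]
  refine hB _ inf_le_left fun e' => h ?_
  rw [← e, ← Coprime.map_mk'_inf_centralizer N (inf_le_left.trans hDS) (coprime_of_isPGroup_of_not_dvd Nat.prime_two hS (not_dvd_card_of_le inf_le_left hD)).symm
    (.inr (solvable_of_pgroup Nat.prime_two hS)), e', Subgroup.map_bot]

end

theorem not_two_dvd_index_cent [Group.IsSolvable G] [V.Normal] (hV : ∀ x, x ∈ V ↔ x ^ 2 = 1) (h1 : V ≠ ⊥)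
    (hm : ∀ K : Subgroup G, K.Normal → V ⊓ K ≠ ⊥ → V ≤ K) : ¬ 2 ∣ (𝐂 V).index := fun hd => by
  have hV2 : IsPGroup 2 V := isPGroup_of_pow_eq_one fun a => (hV a).1
  haveI : Nontrivial (G ⧸ 𝐂 V) := by
    rw [← Finite.one_lt_card_iff_nontrivial, ← index]; exact Nat.le_of_dvd (Nat.pos_of_ne_zero FiniteIndex.index_ne_zero) hd
  obtain ⟨r, hr, h2⟩ := Core.exists_pCore_ne_bot_of_solvable (G := G ⧸ 𝐂 V)
  haveI := Fact.mk hr
  set f := QuotientGroup.mk' (𝐂 V)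
  have hf : Function.Surjective f := QuotientGroup.mk'_surjective _
  set M := (pCore r (G ⧸ 𝐂 V)).comap f
  have m1 : M.map f = pCore r _ := map_comap_eq_self_of_surjective hf _
  obtain ⟨Y, hY⟩ := exists_syl r M
  have e : M = Y ⊔ 𝐂 V := by
    have := hY.map f
    rw [m1] at this
    rw [← QuotientGroup.ker_mk' (𝐂 V), ← comap_map_eq, this.eq_of_isPGroup (Core.isPGroup_pCore r _)]
  have : V ⊓ 𝐂 Y ≠ ⊥ := by
    by_cases r2 : r = 2
    · subst r2
      exact fun e => inf_center_ne_bot (isPGroup_sup_of_le_normalizer' hV2 hY.isPGroup le_normalizer_of_normal') le_sup_left le_normalizer_of_normal' h1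
        (eq_bot_iff.2 ((inf_le_inf_left _ (centralizer_le (SetLike.coe_subset_coe.2 le_sup_right))).trans e.le))
    have o : ∀ {n k : ℕ}, n = r ^ k → ¬ 2 ∣ n := fun e h => r2 ((Nat.prime_dvd_prime_iff_eq Nat.prime_two hr).1 (Nat.prime_two.dvd_of_dvd_pow (e ▸ h))).symm
    obtain ⟨k, hk⟩ := (Core.isPGroup_pCore r (G ⧸ 𝐂 V)).exists_card_eq
    obtain ⟨v, v1, v2⟩ := exists_cent_of_frattini Nat.prime_two (M := M) hV2 (fun x hx => (hV x).2 (hx ▸ pow_orderOf_eq_one x)) (o hY.isPGroup.exists_card_eq.choose_spec)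
      (by simpa using hY.frattini le_top le_normalizer_of_normal') ((Nat.prime_two.dvd_mul.1 (relIndex_mul_index (e.ge.trans' le_sup_right) ▸ hd)).resolve_left
        (o (by rw [← hk, ← m1, ← relIndex_ker, QuotientGroup.ker_mk'])))
    exact fun e => by simp [mem_bot.1 (e.le ⟨(hV v).2 (v2 ▸ pow_orderOf_eq_one v), v1⟩)] at v2
  have := hm (𝐂 M) inferInstance (by rwa [e, Core.centralizer_sup, inf_comm (𝐂 Y), ← inf_assoc, inf_eq_left.2 (le_centralizer_centralizer V)])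
  exact h2 (by rw [← m1, Subgroup.map_eq_bot_iff, QuotientGroup.ker_mk']; exact Amalg.le_cent_symm this)

/-- Thompson: a soluble group with `O(G) = 1`, one class of involutions and more than one involution is `2`-closed. -/
theorem not_two_dvd_index [hG : Group.IsSolvable G] (hO : pPrimeCore 2 G = ⊥) (hc : ∀ x y : G, orderOf x = 2 → orderOf y = 2 → IsConj x y) {y : G}
    (hx : orderOf x = 2) (hy : orderOf y = 2) (hne : x ≠ y) : ¬ 2 ∣ (pCore 2 G).index := fun hd => by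
  have hT : ∀ K : Subgroup G, K.Normal → ∀ x y, orderOf x = 2 → orderOf y = 2 → x ∈ K → y ∈ K := fun K hK x y hx hy h => by
    obtain ⟨g, rfl⟩ := isConj_iff.1 (hc x y hx hy); exact hK.conj_mem _ h g
  have hP := Core.isPSolvable_of_isSolvable (G := G) Nat.prime_two
  have key := fun x => cent_ppp (x := x) hP hO hd fun K _ => hT K inferInstance
  set Q := pCore 2 G
  set L := (pPrimeCore 2 (G ⧸ Q)).comap (QuotientGroup.mk' Q)
  have hQ : IsPGroup 2 Q := Core.isPGroup_pCore 2 G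
  have hC : 𝐂 Q ≤ Q := Core.centralizer_pCore_le_of_isPSolvable Nat.prime_two hP hO
  have hQL : Q ≤ L := fun x hx => by simp [L, (QuotientGroup.eq_one_iff x).2 hx]
  have o : ∀ {x : G}, x ^ 2 = 1 → x ≠ 1 → orderOf x = 2 := orderOf_eq_prime
  have o' : ∀ {x : G}, orderOf x = 2 → x ^ 2 = 1 ∧ x ≠ 1 := fun h => ⟨h ▸ pow_orderOf_eq_one _, fun e => by simp [e] at h⟩
  obtain ⟨V, hV⟩ : ∃ V : Subgroup G, ∀ x, x ∈ V ↔ x ^ 2 = 1 := ⟨omegaOneCenter 2 Q, fun x => mem_omZ_iff.trans ⟨fun h => h.2.2, fun h => by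
    by_cases e : x = 1
    · simp [e, one_mem]
    exact ⟨(key x (o h e)).1, centralizer_le hQL (key x (o h e)).2, h⟩⟩⟩
  haveI : V.Normal := ⟨fun x hx g => (hV _).2 (by rw [conj_pow, (hV x).1 hx]; simp)⟩
  have hm : ∀ K : Subgroup G, K.Normal → V ⊓ K ≠ ⊥ → V ≤ K := fun K hK h y hy => by
    obtain ⟨x, x1, x2⟩ := (V ⊓ K).bot_or_exists_ne_one.resolve_left h
    by_cases e : y = 1
    · rw [e]; exact one_mem _
    exact hT K hK x y (o ((hV x).1 x1.1) x2) (o ((hV y).1 hy) e) x1.2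
  have xV := (hV x).2 (o' hx).1
  have v1 : V ≠ ⊥ := fun e => (o' hx).2 (e.le xV)
  have vL : V ≤ Q ⊓ 𝐂 L := hm _ inferInstance fun e => (o' hx).2 (e.le ⟨xV, key x hx⟩)
  obtain ⟨S, hS⟩ := exists_syl 2 (𝐂 V)
  have hS' := hS.of_le_of_not_dvd le_top (by rw [relIndex_top_right]; exact not_two_dvd_index_cent hV v1 hm)
  have hD := (hS'.of_le le_normalizer le_top).not_dvd_relIndex
  obtain ⟨D, d1, -, d2, d3⟩ := Hall.sz_exists_internal (le_normalizer : S ≤ 𝐍 S) le_rfl (coprime_of_isPGroup_of_not_dvd Nat.prime_two hS.isPGroup hD)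
  rw [← d3] at hD
  have hB : Big (Nat.card V) S D := fun E hE h => by
    obtain ⟨v, v1, v2⟩ := exists_mem_orderOf_eq_prime Nat.prime_two (dvd_card_of_isPGroup_ne_bot hS.isPGroup.to_inf_left h)
    have : (V : Set G) \ {1} ⊆ {z | ∃ l ∈ D, l * v * l⁻¹ = z} := fun u hu => by
      obtain ⟨g, rfl⟩ := isConj_iff.1 (hc v u v2 (o ((hV u).1 hu.1) hu.2))
      obtain ⟨c, c1, a, a1, rfl⟩ := hS.frattini_mem (le_normalizer_of_normal' (mem_top g))
      obtain ⟨d, hd, s, hs, rfl⟩ := (Coprime.mem_sup_iff_of_le_normalizer' d1).1 (d2.ge a1)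
      have vV := (hV v).2 (o' v2).1
      refine ⟨d, hd, ?_⟩
      rw [show c * (d * s) * v * (c * (d * s))⁻¹ = c * (d * (s * v * s⁻¹) * d⁻¹) * c⁻¹ by group, ← hS.le hs v vV, mul_inv_cancel_right,
        ← c1 _ (‹V.Normal›.conj_mem _ vV d), mul_inv_cancel_right]
    have := (Set.ncard_le_ncard this).trans ((Hall.ncard_conj_orbit D v).le.trans (relIndex_le_of_le_left (H := E)
      (fun e he => mem_centralizer_singleton_iff.2 (v1.2 e he)) relIndex_ne_zero'))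
    rw [← Nat.add_le_add_iff_right (n := 1), Set.ncard_diff_singleton_add_one (one_mem _)] at this
    exact this
  have hq : 2 < Nat.card V := by
    haveI := Fintype.ofFinite V
    rw [Nat.card_eq_fintype_card, Fintype.two_lt_card_iff]
    exact ⟨1, ⟨x, xV⟩, ⟨y, (hV y).2 (o' hy).1⟩, by simpa [Subtype.ext_iff] using (o' hx).2.symm, by simpa [Subtype.ext_iff] using (o' hy).2.symm, by simpa using hne⟩
  obtain ⟨H₀, c0, c1, c2, c3⟩ := PGrp.exists_critical hQ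
  set H := H₀.map Q.subtype
  haveI : H.Normal := normal_of_top_le_normalizer (le_normalizer_of_normal'.trans (normalizer_le_normalizer_map_of_characteristic H₀))
  have hHQ : H ≤ Q := map_subtype_le _
  have c4 : Q ⊓ 𝐂 H ≤ H := (PGrp.map_subtype_centralizer H₀).ge.trans (map_mono c3)
  have c5 : ⁅H, H⁆ ≤ V := commutator_le.2 (by
    rintro _ ⟨a, ha, rfl⟩ _ ⟨b, hb, rfl⟩
    have e1 := (c2 (commutator_mem_commutator ha (mem_top b))).2 a ha
    have e2 := commutatorElement_eq_one_iff_mul_comm.2 (c1 a ha b hb).symm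
    rw [show ⁅a ^ 2, b⁆ = a * ⁅a, b⁆ * a⁻¹ * ⁅a, b⁆ by rw [sq]; group, e1, mul_inv_cancel_right] at e2
    rw [hV, ← map_commutatorElement, ← map_pow, sq, e2, map_one])
  have vH : V ≤ H := le_trans (le_inf (vL.trans inf_le_left) ((vL.trans inf_le_right).trans (centralizer_le (hHQ.trans hQL)))) c4
  set f := QuotientGroup.mk' V
  have hf : Function.Surjective f := QuotientGroup.mk'_surjective _
  have hk : f.ker = V := QuotientGroup.ker_mk' _
  have hH : IsMulCommutative (H.map f) := by rw [isMulCommutative_iff_le_cent, ← comm_eq_bot_iff, ← map_commutator, Subgroup.map_eq_bot_iff, hk]; exact c5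
  haveI : (H.map f).Normal := .map ‹_› _ hf
  haveI : (L.map f).Normal := .map inferInstance _ hf
  haveI : (Q.map f).Normal := .map inferInstance _ hf
  haveI := om_normal (p := 2) (H.map f)
  have hQS : Q ≤ S := hS'.pCore_le
  have i1 : ¬ 2 ∣ Q.relIndex L := by
    rw [← QuotientGroup.ker_mk' Q, relIndex_ker, map_comap_eq_self_of_surjective (QuotientGroup.mk'_surjective Q)]; exact Core.not_dvd_card_pPrimeCore Nat.prime_two
  have cW : Nat.card (omegaOne 2 (H.map f)) ≤ Nat.card V ^ 2 := by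
    set P := (omegaOne 2 (H.map f)).comap f
    have p1 : P ≤ H := (comap_mono (om_le _)).trans (by rw [comap_map_eq, hk, sup_eq_left.2 vH])
    have p2 : V ≤ P := hk.ge.trans (ker_le_comap _ _)
    have := (card_le_cube (hQ.to_le (p1.trans hHQ)) (N := V.subgroupOf P) (commutator_le.2 fun a _ b _ => mem_center_iff.2 fun c => Subtype.ext
      ((vL (c5 (commutator_mem_commutator (p1 a.2) (p1 b.2)))).2 _ (hQL (hHQ (p1 c.2))))) (fun a => Subtype.ext (by
        have : a.1 ^ 2 ∈ V := hk.le (show f _ = 1 by rw [map_pow, pow_eq_one_of_mem_om hH a.2])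
        simpa [← pow_mul] using (hV _).1 this)) fun a => (hV a).trans (by simp [Subtype.ext_iff])).1
    rw [Core.card_subgroupOf_of_le p2, ← Core.card_mul_relIndex p2, ← hk, relIndex_ker, map_comap_eq_self_of_surjective hf, hk, pow_succ'] at this
    exact Nat.le_of_mul_le_mul_left this Nat.card_pos
  have : IsPGroup 2 ↥⁅L, S⁆ := isPGroup_of_forall_pPrime fun A hA h => by
    have a2 := (Nat.Prime.coprime_iff_not_dvd Nat.prime_two).1 h.symm
    have a3 : ¬ 2 ∣ Nat.card (A.map f) := fun e => a2 (e.trans (card_map_dvd _ _))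
    have := (hB.map hS.isPGroup hD V d1).core (hS.isPGroup.map f) (fun e => hD (e.trans (card_map_dvd _ _))) hq (isElemAb_om hH)
      ((om_le _).trans (map_mono (hHQ.trans hQS))) ((map_mono d1).trans (le_normalizer_map f)) cW (map_mono hQS)
      (fun e => i1 (e.trans (Core.relIndex_map_dvd f Q L))) ((map_mono hA).trans (map_commutator _ _ _).le) a3
    have hH2 := hQ.to_le hHQ
    have := coprime_abelian_faithful_omega Nat.prime_two le_normalizer_of_normal' (coprime_card_of_pPrime (Core.coprime_map h f) (hH2.map f)) hH (hH2.map f) this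
    rw [← comm_eq_bot_iff', ← map_commutator, Subgroup.map_eq_bot_iff, hk] at this
    have := stable_factor_cent le_normalizer_of_normal' (coprime_card_of_pPrime h hH2) (.inr (solvable_of_pgroup Nat.prime_two hH2)) vH this
      (Amalg.le_cent_symm ((vL.trans inf_le_right).trans (centralizer_le (hA.trans (commutator_le_left _ _)))))
    have := coprime_nil_faithful le_normalizer_of_normal' (coprime_card_of_pPrime h hQ) hQ.isNilpotent
      (((inf_le_inf_left _ (centralizer_le (le_inf hHQ (Amalg.le_cent_symm this)))).trans c4).trans (Amalg.le_cent_symm this))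
    exact eq_bot_of_pPrime_le h hQ (this.trans hC)
  have := (syl_of_not_dvd hQL hQ i1).le_of_normal_syl le_normalizer_of_normal' this (commutator_le_left _ _)
  rw [← QuotientGroup.ker_mk' Q, ← Subgroup.map_eq_bot_iff, map_commutator, map_comap_eq_self_of_surjective (QuotientGroup.mk'_surjective Q), comm_eq_bot_iff'] at this
  have := Core.eq_bot_of_isPGroup_of_coprime Nat.prime_two (hS.isPGroup.map _) (Core.coprime_of_le (Core.coprime_card_pPrimeCore 2 _) (this.trans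
    (Core.centralizer_pPrimeCore_le_of_isPSolvable Nat.prime_two (Core.isPSolvable_quotient Nat.prime_two hP _) Core.pCore_quotient_pCore)))
  rw [Subgroup.map_eq_bot_iff, QuotientGroup.ker_mk'] at this
  exact hS'.not_dvd_index (hd.trans (index_dvd_of_le this))

theorem homocyclic {S : Type*} [CommGroup S] [Finite S] [hp : Fact p.Prime] (hS : IsPGroup p S)
    (h : ∀ K : Subgroup S, K.Characteristic → ∀ x y : S, orderOf x = p → orderOf y = p → x ∈ K → y ∈ K) :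
    ∃ m r : ℕ, Nonempty (S ≃* (Fin r → Multiplicative (ZMod (p ^ m)))) := by
  classical
  obtain ⟨ι, _, n, h1, ⟨e⟩⟩ := CommGroup.equiv_prod_multiplicative_zmod_of_finite S
  have o : ∀ i, orderOf (e.symm (Pi.mulSingle i (.ofAdd 1))) = n i := fun i => by
    rw [MulEquiv.orderOf_eq, orderOf_piMulSingle, orderOf_ofAdd_eq_addOrderOf, ZMod.addOrderOf_one]
  have h2 : ∀ i, ∃ k, n i = p ^ (k + 1) := fun i => by
    obtain ⟨_ | k, hk⟩ := hS.exists_orderOf_eq_pow (e.symm (Pi.mulSingle i (.ofAdd 1)))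
    · have := h1 i; rw [← o, hk] at this; simp at this
    exact ⟨k, o i ▸ hk⟩
  choose a ha using h2
  have o' : ∀ i, orderOf (e.symm (Pi.mulSingle i (.ofAdd 1)) ^ p ^ a i) = p := fun i => by
    rw [orderOf_pow_of_dvd (pow_pos hp.out.pos _).ne' (by rw [o, ha]; exact pow_dvd_pow _ (Nat.le_succ _)), o, ha, pow_succ, Nat.mul_div_cancel_left _ (pow_pos hp.out.pos _)]
  have h3 : ∀ i j, a j ≤ a i := fun i j => by
    by_contra! hlt
    obtain ⟨s, hs⟩ := h (powMonoidHom (p ^ a j)).range (PGrp.characteristic_of_forall_mem (by rintro φ _ ⟨x, rfl⟩; exact ⟨φ x, by simp⟩)) _ _ (o' j) (o' i) ⟨_, rfl⟩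
    obtain ⟨c, hc⟩ := pow_dvd_pow p (Nat.succ_le_of_lt hlt)
    haveI : NeZero (n i) := ⟨by have := h1 i; omega⟩
    have := congrFun (congrArg e hs) i
    rw [powMonoidHom_apply, map_pow, map_pow, e.apply_symm_apply, Pi.pow_apply, Pi.pow_apply, Pi.mulSingle_eq_same, hc, ← ha, pow_mul,
      show e s i ^ n i = 1 by simpa using pow_card_eq_one' (x := e s i), one_pow, eq_comm, ← orderOf_dvd_iff_pow_eq_one, orderOf_ofAdd_eq_addOrderOf,
      ZMod.addOrderOf_one, ha, Nat.pow_dvd_pow_iff_le_right hp.out.one_lt] at this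
    omega
  obtain ⟨m, rfl⟩ : ∃ m, n = fun _ => p ^ m := by
    rcases isEmpty_or_nonempty ι with _ | ⟨⟨i⟩⟩
    · exact ⟨0, funext isEmptyElim⟩
    exact ⟨a i + 1, funext fun j => by rw [ha, (h3 i j).antisymm (h3 j i)]⟩
  exact ⟨m, _, ⟨e.trans (MulEquiv.arrowCongr (Fintype.equivFin ι) (.refl _))⟩⟩

end Cfsg.Lib.FG
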